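import Cfsg.Agent.Lib.Fischer.Thm.Steps
import Cfsg.Agent.Lib.Fischer.FromCent.Main

/-!
# A neighbourhood `U₆(2)` gives type M(22)

The neighbourhoods of all members are coordinatised by the transvections of `U₆(2)`, so the presented group Fi22
is the group, and the type carries over from it.
-/

set_option autoImplicit false
set_option linter.unusedSectionVars false

namespace Cfsg.Lib.Fischer.Thm

open Cfsg Cfsg.Lib.Fischer Cfsg.Lib.Fischer.Relations Cfsg.Lib.Linear.Herm

universe u

variable {G : Type*} [Group G] [Finite G] {D : Set G}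

/-- The cores of a group of Fischer's kind are trivial. -/
theorem pCore_eq_bot_of_isFischer (hF : IsFischer D) (p : ℕ) [Fact p.Prime] : Cfsg.pCore p G = ⊥ := by
  haveI := (Lib.Core.pCore_isPGroup p G).isNilpotent
  exact hF.sol _ inferInstance inferInstance

/-- A group of Fischer's kind has trivial centre. -/
theorem center_eq_bot_of_isFischer (hF : IsFischer D) : Subgroup.center G = ⊥ :=
  hF.sol _ inferInstance (Group.isSolvable_of_comm fun a b => Subtype.ext (Subgroup.mem_center_iff.1 b.2 a))

/-- Its commuting graph is connected. -/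
theorem connected_of_isFischer (hF : IsFischer D) : (Cfsg.commutingGraph D).Connected := by
  haveI : Nonempty D := hF.ne.to_subtype
  refine ⟨fun u v => ?_⟩
  have h := commuting_connected hF
    (p := fun e => ∀ he : e ∈ D, (Cfsg.commutingGraph D).Reachable u ⟨e, he⟩)
    (fun a ha b hb hab h hb' => by
      by_cases hne : (⟨a, ha⟩ : D) = ⟨b, hb'⟩
      · exact hne ▸ h ha
      refine (h ha).trans (SimpleGraph.Adj.reachable ?_)
      rw [Cfsg.commutingGraph, SimpleGraph.fromRel_adj]
      exact ⟨hne, Or.inl hab⟩)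
    u.2 v.2 (fun _ => SimpleGraph.Reachable.refl _)
  exact h v.2

/-- A group of Fischer's kind is primitive on its class. -/
theorem primitive_of_isFischer (hF : IsFischer D) : Cfsg.IsPrimitiveUnderConj D := by
  haveI : Fact (Nat.Prime 3) := ⟨Nat.prime_three⟩
  have hD := hF.toTrans
  obtain ⟨a, ha, b, hb, hne, -⟩ := exists_commute hD hF.sol
  have hne2 : ∃ a ∈ D, ∃ b ∈ D, a ≠ b := ⟨a, ha, b, hb, hne⟩
  have h2 : Cfsg.pCore 2 G ≤ Subgroup.center G := (pCore_eq_bot_of_isFischer hF 2).le.trans bot_le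
  have h3 : Cfsg.pCore 3 G ≤ Subgroup.center G := (pCore_eq_bot_of_isFischer hF 3).le.trans bot_le
  obtain ⟨L, hLn, hL, -, hgf⟩ := exists_quasisimple hD hne2 h2 h3
  haveI := hLn
  exact primitive_of_index hD hne2 h2 h3 hL hgf (index_le_two_of_connected hD hL (connected_of_isFischer hF))

/-- Conjugation carries neighbourhood groups to each other. -/
theorem nonempty_loc_congr (hF : IsFischer D) {x d : G} (hx : x ∈ D) (hd : d ∈ D) :
    Nonempty (Loc G D d ≃* Loc G D x) := by
  obtain ⟨g, rfl⟩ := hF.trans x hx d hd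
  have h : (MulAut.conj g) '' D = D := by
    refine Set.Subset.antisymm ?_ fun y hy => ⟨g⁻¹ * y * g, ?_, by simp [mul_assoc]⟩
    · rintro _ ⟨y, hy, rfl⟩
      exact hF.conj g y hy
    · simpa using hF.conj g⁻¹ y hy
  have := FromCent.closure_quot_congr (MulAut.conj g) (FromCent.image_perp (MulAut.conj g) D x)
  rw [h] at this
  exact this

/-- A neighbourhood `U₆(2)` gives type M(22). -/
theorem m22Step : MTwentyTwoStep.{u} := by
  intro G _ _ D hF x hx hc hP
  obtain ⟨F, iF, iFt, hF4, e, -⟩ := hP
  have hcard : Fintype.card F = 2 ^ 2 := hF4.trans (by norm_num)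
  have hD := hF.toTrans
  have hsep := fun a ha b hb h => eq_of_commute_iff hF (a := a) (b := b) ha hb h
  have hdata : ∀ d ∈ D, Nonempty (UData (perp D d) (hB hcard 6)) := fun d hd => by
    obtain ⟨q⟩ := nonempty_loc_congr hF hx hd
    exact exists_udata hD hsep hd hcard (q.trans e)
  have hS : Fi22Recog.M22 D hcard :=
    ⟨hF, primitive_of_isFischer hF, center_eq_bot_of_isFischer hF, hsep, hdata⟩
  obtain ⟨f, hf⟩ := Fi22Recog.exists_iso hS hx
  obtain ⟨D₁, hD₁, -, -, htype⟩ := Fi22Type.fi22_type
  have himg : f '' D₁ = D := by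
    subst hD₁
    ext z
    constructor
    · rintro ⟨w, hw, rfl⟩
      obtain ⟨c, rfl⟩ := isConj_iff.1 hw
      rw [map_mul, map_mul, map_inv, show f (CosetEnum.Fi22Pres.numbering.gens Cfsg.Spor.Fi22.extra 0) = x from hf]
      exact hF.conj _ x hx
    · intro hz
      obtain ⟨c, rfl⟩ := hF.trans x hx z hz
      exact ⟨f.symm c * Fi22Recog.fiA * (f.symm c)⁻¹, isConj_iff.2 ⟨_, rfl⟩, by simp [hf]⟩
  rw [← himg]
  exact FromCent.isOfTypeM22_map f htype

end Cfsg.Lib.Fischer.Thm
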