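import Cfsg.Agent.Lib.Fischer.Thm.List

/-!
# The steps of Fischer's theorem, as propositions

The recognition steps determine a pair from the class of the neighbours of one member; each is proved in a
module of its own and the assembly in `Main` takes them as one hypothesis.
-/

set_option autoImplicit false

namespace Cfsg.Lib.Fischer.Thm

open Cfsg Cfsg.Lib.Fischer

universe u

/-- A non-central local 2-core gives a symplectic or unitary group with its transvections. -/
def TwoCoreStep : Prop :=
  ∀ (G : Type u) [Group G] [Finite G] (D : Set G), IsFischer D → ∀ x ∈ D,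
    ¬ Cfsg.pCore 2 ↥(Subgroup.closure (perp D x)) ≤ Subgroup.center ↥(Subgroup.closure (perp D x)) →
      (∃ m, 2 ≤ m ∧ IsSp G D m) ∨ ∃ n, 4 ≤ n ∧ IsPSU G D n

/-- A non-central local 3-core gives the symmetric group of degree five with its transpositions. -/
def ThreeCoreStep : Prop :=
  ∀ (G : Type u) [Group G] [Finite G] (D : Set G), IsFischer D → ∀ x ∈ D,
    ¬ Cfsg.pCore 3 ↥(Subgroup.closure (perp D x)) ≤ Subgroup.center ↥(Subgroup.closure (perp D x)) →
      IsSym G D 5

/-- Symmetric neighbourhoods (degree five or at least seven) give the symmetric group two degrees higher. -/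
def SymStep : Prop :=
  ∀ (G : Type u) [Group G] [Finite G] (D : Set G), IsFischer D → ∀ x ∈ D, CentralAt G D x →
    ∀ n, n = 5 ∨ 7 ≤ n → IsSym (Loc G D x) (locSet G D x) n → IsSym G D (n + 2)

/-- Symplectic neighbourhoods give an orthogonal group over two elements. -/
def SpStep : Prop :=
  ∀ (G : Type u) [Group G] [Finite G] (D : Set G), IsFischer D → ∀ x ∈ D, CentralAt G D x →
    ∀ m, 2 ≤ m → IsSp (Loc G D x) (locSet G D x) m → IsOPlus G D (m + 1) ∨ IsOMinus G D m

/-- No neighbourhood is orthogonal over two elements of dimension at least eight. -/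
def OrthTwoStep : Prop :=
  ∀ (G : Type u) [Group G] [Finite G] (D : Set G), IsFischer D → ∀ x ∈ D, CentralAt G D x →
    (∀ m, 4 ≤ m → ¬ IsOPlus (Loc G D x) (locSet G D x) m) ∧ ∀ m, 3 ≤ m → ¬ IsOMinus (Loc G D x) (locSet G D x) m

/-- Unitary neighbourhoods occur in dimension four and six only. -/
def UnitaryStep : Prop :=
  ∀ (G : Type u) [Group G] [Finite G] (D : Set G), IsFischer D → ∀ x ∈ D, CentralAt G D x →
    ∀ n, 4 ≤ n → IsPSU (Loc G D x) (locSet G D x) n → n ≠ 4 → n = 6

/-- A neighbourhood `U₆(2)` gives type M(22). -/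
def MTwentyTwoStep : Prop :=
  ∀ (G : Type u) [Group G] [Finite G] (D : Set G), IsFischer D → ∀ x ∈ D, CentralAt G D x →
    IsPSU (Loc G D x) (locSet G D x) 6 → Cfsg.IsOfTypeM22 G D

/-- Reflection neighbourhoods over three elements give reflection groups one dimension higher. -/
def ReflStep : Prop :=
  ∀ (G : Type u) [Group G] [Finite G] (D : Set G), IsFischer D → ∀ x ∈ D, CentralAt G D x →
    ∀ n μ c, 5 ≤ n → IsRefl (Loc G D x) (locSet G D x) n μ c → IsRefl G D (n + 1) (-(μ * c)) c

/-- Neighbourhoods of type M(22) give type M(23). -/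
def MTwentyThreeStep : Prop :=
  ∀ (G : Type u) [Group G] [Finite G] (D : Set G), IsFischer D → ∀ x ∈ D, CentralAt G D x →
    Cfsg.IsOfTypeM22 (Loc G D x) (locSet G D x) → Cfsg.IsOfTypeM23 G D

/-- Neighbourhoods of type M(23) give type M(24). -/
def MTwentyFourStep : Prop :=
  ∀ (G : Type u) [Group G] [Finite G] (D : Set G), IsFischer D → ∀ x ∈ D, CentralAt G D x →
    Cfsg.IsOfTypeM23 (Loc G D x) (locSet G D x) → Cfsg.IsOfTypeM24 G D

/-- No neighbourhood is of type M(24). -/
def TopStep : Prop :=
  ∀ (G : Type u) [Group G] [Finite G] (D : Set G), IsFischer D → ∀ x ∈ D, CentralAt G D x →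
    ¬ Cfsg.IsOfTypeM24 (Loc G D x) (locSet G D x)

/-- Coincidences between members of the list. -/
def SmallIsoStep : Prop :=
  ∀ (G : Type u) [Group G] [Finite G] (D : Set G),
    (IsOPlus G D 3 → IsSym G D 8) ∧
    (IsOMinus G D 2 → ∃ μ c, IsRefl G D 5 μ c) ∧
    (IsPSU G D 4 → ∃ μ c, IsRefl G D 5 μ c)

/-- All the steps together. -/
structure Steps : Prop where
  two : TwoCoreStep.{u}
  three : ThreeCoreStep.{u}
  sym : SymStep.{u}
  sp : SpStep.{u}
  orthTwo : OrthTwoStep.{u}
  unitary : UnitaryStep.{u}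
  m22 : MTwentyTwoStep.{u}
  refl : ReflStep.{u}
  m23 : MTwentyThreeStep.{u}
  m24 : MTwentyFourStep.{u}
  top : TopStep.{u}
  small : SmallIsoStep.{u}

end Cfsg.Lib.Fischer.Thm
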