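import Cfsg.Agent.Lib.Fischer.Thm.Local
import Cfsg.Agent.Lib.Fischer.Thm.Steps

/-!
# Fischer's theorem from its steps

Induction on the order of the group: the class of the neighbours of a member is of the same kind in a
smaller group.
-/

set_option autoImplicit false

namespace Cfsg.Lib.Fischer.Thm

open Cfsg Cfsg.Lib.Fischer

universe u

theorem card_loc_lt {G : Type u} [Group G] [Finite G] {D : Set G} (hF : IsFischer D) {x : G} (hx : x ∈ D) :
    Nat.card (Loc G D x) < Nat.card G := by
  refine lt_of_le_of_lt (Nat.le_of_dvd Nat.card_pos (Subgroup.card_quotient_dvd_card _)) ?_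
  refine lt_of_le_of_ne (Subgroup.card_le_card_group _) fun e => ?_
  have htop := Subgroup.eq_top_of_card_eq _ e
  obtain ⟨c, -, hxc⟩ := exists_not_commute hF hx
  refine hxc ?_
  have hle : Subgroup.closure (perp D x) ≤ Subgroup.centralizer ({x} : Set G) :=
    (Subgroup.closure_le _).2 fun y hy => Subgroup.mem_centralizer_singleton_iff.2 hy.2.2.eq.symm
  exact (Subgroup.mem_centralizer_singleton_iff.1 (hle (htop ▸ Subgroup.mem_top c))).symm

/-- The centrality of the local cores does not depend on the member. -/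
theorem centralAt_conj {G : Type u} [Group G] [Finite G] {D : Set G} (hF : IsFischer D) {x y : G} (hx : x ∈ D)
    (hy : y ∈ D) (hc : CentralAt G D x) : CentralAt G D y := by
  obtain ⟨g, rfl⟩ := hF.trans x hx y hy
  have hmap : (Subgroup.closure (perp D x)).map (MulAut.conj g).toMonoidHom =
      Subgroup.closure (perp D (g * x * g⁻¹)) := by
    rw [MonoidHom.map_closure]
    congr 1
    ext z
    rw [mem_perp_conj hF.toTrans]
    refine ⟨?_, fun h => ⟨_, h, by simp [mul_assoc]⟩⟩
    rintro ⟨w, hw, rfl⟩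
    simpa [mul_assoc] using hw
  let e : ↥(Subgroup.closure (perp D x)) ≃* ↥(Subgroup.closure (perp D (g * x * g⁻¹))) :=
    ((Subgroup.closure (perp D x)).equivMapOfInjective _ (MulAut.conj g).injective).trans
      (MulEquiv.subgroupCongr hmap)
  have key : ∀ p, Cfsg.pCore p ↥(Subgroup.closure (perp D x)) ≤ Subgroup.center _ →
      Cfsg.pCore p ↥(Subgroup.closure (perp D (g * x * g⁻¹))) ≤ Subgroup.center _ := by
    intro p h z hz
    rw [← Lib.Core.map_pCore_equiv e] at hz
    obtain ⟨y, hy', rfl⟩ := hz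
    rw [Subgroup.mem_center_iff]
    intro w
    obtain ⟨w, rfl⟩ := e.surjective w
    show e w * e y = e y * e w
    rw [← map_mul, ← map_mul, Subgroup.mem_center_iff.1 (h hy') w]
  exact ⟨key 2 hc.1, key 3 hc.2⟩

/-- Fischer's theorem: the groups with central local cores form the short list, and everything is on the list. -/
theorem classify (S : Steps.{u}) :
    ∀ (N : ℕ) (G : Type u) [Group G] [Finite G] (D : Set G), Nat.card G ≤ N → IsFischer D →
      InList G D ∧ ∀ x ∈ D, CentralAt G D x → InCentral G D := by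
  intro N
  induction N with
  | zero => intro G _ _ D h _; exact absurd h (Nat.not_le.2 Nat.card_pos)
  | succ N ih =>
    intro G _ _ D hN hF
    have hcen : ∀ x ∈ D, CentralAt G D x → InCentral G D := by
      intro x hx hc
      obtain ⟨hlist, -⟩ := ih (Loc G D x) (locSet G D x)
        (Nat.le_of_lt_succ (lt_of_lt_of_le (card_loc_lt hF hx) hN)) (isFischer_loc hF hx hc)
      have hsmall := S.small (Loc G D x) (locSet G D x)
      have hrefl : ∀ n, 5 ≤ n → (∃ μ c, IsRefl (Loc G D x) (locSet G D x) n μ c) → InCentral G D :=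
        fun n hn ⟨μ, c, h⟩ => Or.inr (Or.inr (Or.inl ⟨n + 1, by omega, _, _, S.refl G D hF x hx hc n μ c hn h⟩))
      have hsym : ∀ n, n = 5 ∨ 7 ≤ n → IsSym (Loc G D x) (locSet G D x) n → InCentral G D :=
        fun n hn h => Or.inl ⟨n + 2, by omega, S.sym G D hF x hx hc n hn h⟩
      rcases hlist with ⟨m, hm, h⟩ | ⟨n, hn, h⟩ | h | h
      · rcases S.sp G D hF x hx hc m hm h with h' | h'
        · exact Or.inr (Or.inl (Or.inl ⟨m + 1, by omega, h'⟩))
        · exact Or.inr (Or.inl (Or.inr ⟨m, hm, h'⟩))
      · by_cases h4 : n = 4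
        · subst h4
          exact hrefl 5 le_rfl (hsmall.2.2 h)
        · obtain rfl := S.unitary G D hF x hx hc n hn h h4
          exact Or.inr (Or.inr (Or.inr (Or.inl (S.m22 G D hF x hx hc h))))
      · exact hsym 5 (Or.inl rfl) h
      · rcases h with ⟨n, hn, h⟩ | (⟨m, hm, h⟩ | ⟨m, hm, h⟩) | ⟨n, hn, h⟩ | h | h | h
        · exact hsym n (Or.inr hn) h
        · rcases eq_or_lt_of_le hm with rfl | hm
          · exact hsym 8 (Or.inr (by norm_num)) (hsmall.1 h)
          · exact absurd h ((S.orthTwo G D hF x hx hc).1 m hm)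
        · rcases eq_or_lt_of_le hm with rfl | hm
          · exact hrefl 5 le_rfl (hsmall.2.1 h)
          · exact absurd h ((S.orthTwo G D hF x hx hc).2 m hm)
        · exact hrefl n hn h
        · exact Or.inr (Or.inr (Or.inr (Or.inr (Or.inl (S.m23 G D hF x hx hc h)))))
        · exact Or.inr (Or.inr (Or.inr (Or.inr (Or.inr (S.m24 G D hF x hx hc h)))))
        · exact absurd h (S.top G D hF x hx hc)
    refine ⟨?_, hcen⟩
    obtain ⟨x, hx⟩ := hF.ne
    by_cases h2 : Cfsg.pCore 2 ↥(Subgroup.closure (perp D x)) ≤ Subgroup.center ↥(Subgroup.closure (perp D x))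
    · by_cases h3 : Cfsg.pCore 3 ↥(Subgroup.closure (perp D x)) ≤ Subgroup.center ↥(Subgroup.closure (perp D x))
      · exact Or.inr (Or.inr (Or.inr (hcen x hx ⟨h2, h3⟩)))
      · exact Or.inr (Or.inr (Or.inl (S.three G D hF x hx h3)))
    · rcases S.two G D hF x hx h2 with h | h
      · exact Or.inl h
      · exact Or.inr (Or.inl h)

end Cfsg.Lib.Fischer.Thm
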