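import Cfsg.Agent.Lib.Fischer.Thm.Steps
import Cfsg.Agent.Lib.Fischer.Thm.SmallIso.Data
import Cfsg.Agent.Lib.Fischer.Thm.SmallIso.Refl
import Cfsg.Agent.Lib.Fischer.Thm.SmallIso.OrthTwo
import Cfsg.Agent.Lib.Fischer.Thm.SmallIso.Unitary

/-!
# Coincidences between small members of Fischer's list

`O₆⁺(2) ≅ S₈`, and `O₆⁻(2)`, `U₄(2)` are reflection groups of the five-dimensional space over three elements,
in each case with their classes.
-/

set_option autoImplicit false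
set_option maxRecDepth 100000

namespace Cfsg.Lib.Fischer.Thm.SmallIso

open Cfsg Cfsg.Lib.Fischer Cfsg.Lib.Linear.Orth

theorem plus_span : ∀ i, ∃ a b, Pi.single i 1 = ptPlus a + ptPlus b := by decide +kernel

theorem plus_pt : ∀ p, quadFormPlus 3 (ZMod 2) (ptPlus p) = 1 := by unfold quadFormPlus; decide +kernel

theorem plus_all : ∀ v : Fin 3 ⊕ Fin 3 → ZMod 2, quadFormPlus 3 (ZMod 2) v = 1 → ∃ p, v = ptPlus p := by
  unfold quadFormPlus; decide +kernel

theorem plus_tbl : ∀ a b, tv2 (quadFormPlus 3 (ZMod 2)) (ptPlus a) (ptPlus b) = ptPlus (tblPlus a b) := by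
  unfold tv2 quadFormPlus; decide +kernel

theorem plus_inj : ∀ a b, (∀ i, tv2 (quadFormPlus 3 (ZMod 2)) (ptPlus a) (Pi.single i 1) =
    tv2 (quadFormPlus 3 (ZMod 2)) (ptPlus b) (Pi.single i 1)) → a = b := by
  unfold tv2 quadFormPlus; decide +kernel

/-- The transposition of a pair. -/
def swapPair (p : Fin 28) : Equiv.Perm (Fin 8) := Equiv.swap (ptPair p).1 (ptPair p).2

theorem swapPair_ne : ∀ p, (ptPair p).1 ≠ (ptPair p).2 := by decide +kernel

theorem swapPair_all : ∀ x y : Fin 8, x ≠ y → ∃ p, ptPair p = (x, y) ∨ ptPair p = (y, x) := by decide +kernel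

theorem swapPair_inj : ∀ a b, (∀ i, swapPair a i = swapPair b i) → a = b := by decide +kernel

theorem swapPair_tbl : ∀ a b i, (swapPair a * swapPair b * swapPair a) i = swapPair (tblPlus a b) i := by
  decide +kernel

theorem range_swapPair : Set.range swapPair = {σ : Equiv.Perm (Fin 8) | σ.IsSwap} := by
  ext σ
  constructor
  · rintro ⟨p, rfl⟩
    exact ⟨_, _, swapPair_ne p, rfl⟩
  · rintro ⟨x, y, hxy, rfl⟩
    obtain ⟨p, hp | hp⟩ := swapPair_all x y hxy
    · exact ⟨p, by rw [swapPair, hp]⟩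
    · exact ⟨p, by rw [swapPair, hp, Equiv.swap_comm]⟩

/-- `O₆⁺(2) ≅ S₈`. -/
theorem isSym_eight {G : Type*} [Group G] [Finite G] {D : Set G} (h : IsOPlus G D 3) :
    IsSym G D 8 := by
  obtain ⟨e, he⟩ := h
  obtain ⟨B, C⟩ := exists_space_plus (F := ZMod 2) 3
  obtain ⟨δ, hδ, hD, hT, hgen, hcen⟩ :=
    exists_orth_points C e he ptPlus tblPlus plus_pt plus_all plus_tbl plus_inj (by simp) plus_span
  obtain ⟨θ, hθ, hker, hp⟩ := exists_hom δ hδ (hD.symm ▸ hgen) hcen swapPair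
    (fun a b h => swapPair_inj a b fun i => by rw [h])
    (by rw [range_swapPair]; exact Equiv.Perm.closure_isSwap) tblPlus hT
    (fun a b => Equiv.ext fun i => by
      rw [show (swapPair a)⁻¹ = swapPair a from Equiv.symm_swap _ _]; exact swapPair_tbl a b i)
  have hc : Subgroup.center (Equiv.Perm (Fin 8)) = ⊥ := by
    rw [Subgroup.eq_bot_iff_forall]
    intro σ hσ
    refine Equiv.ext fun x => ?_
    by_contra hx
    rw [Equiv.Perm.one_apply] at hx
    obtain ⟨z, hz1, hz2⟩ : ∃ z, z ≠ x ∧ z ≠ σ x :=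
      (show ∀ a b : Fin 8, ∃ z, z ≠ a ∧ z ≠ b by decide) x (σ x)
    have h1 := Equiv.ext_iff.1 (Subgroup.mem_center_iff.1 hσ (Equiv.swap (σ x) z)) x
    rw [Equiv.Perm.mul_apply, Equiv.Perm.mul_apply, Equiv.swap_apply_left,
      Equiv.swap_apply_of_ne_of_ne (Ne.symm hx) hz1.symm] at h1
    exact hz2 h1
  let f := MulEquiv.ofBijective θ ⟨(MonoidHom.ker_eq_bot_iff θ).1 (hker.trans hc), hθ⟩
  refine ⟨f.symm, ?_⟩
  rw [← hD, ← range_swapPair, ← Set.range_comp]
  exact congrArg Set.range (funext fun p => f.injective (by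
    rw [Function.comp_apply, MulEquiv.apply_symm_apply]; exact (hp p).symm))

theorem minus_span : ∀ i, ∃ a b, Pi.single i 1 = ptMinus a + ptMinus b := by decide +kernel

theorem minus_pt : ∀ p, quadFormMinus 2 (ZMod 2) 1 1 (ptMinus p) = 1 := by unfold quadFormMinus; decide +kernel

theorem minus_all : ∀ v : (Fin 2 ⊕ Fin 2) ⊕ Fin 2 → ZMod 2,
    quadFormMinus 2 (ZMod 2) 1 1 v = 1 → ∃ p, v = ptMinus p := by
  unfold quadFormMinus; decide +kernel

theorem minus_tbl : ∀ a b, tv2 (quadFormMinus 2 (ZMod 2) 1 1) (ptMinus a) (ptMinus b) = ptMinus (tblMinus a b) := by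
  unfold tv2 quadFormMinus; decide +kernel

theorem minus_inj : ∀ a b, (∀ i, tv2 (quadFormMinus 2 (ZMod 2) 1 1) (ptMinus a) (Pi.single i 1) =
    tv2 (quadFormMinus 2 (ZMod 2) 1 1) (ptMinus b) (Pi.single i 1)) → a = b := by
  unfold tv2 quadFormMinus; decide +kernel

theorem reflA_pt : ∀ p, q5 (ptReflA p) = 2 := by decide +kernel

theorem reflA_all : ∀ v, q5 v = 2 → ∃ p, v = ptReflA p ∨ v = -ptReflA p := by decide +kernel

theorem reflA_tbl : ∀ a b, refl5 2 (ptReflA a) (ptReflA b) = ptReflA (tblMinus a b) ∨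
    refl5 2 (ptReflA a) (ptReflA b) = -ptReflA (tblMinus a b) := by decide +kernel

theorem reflA_inj : ∀ a b, (∀ i : Fin 5, refl5 2 (ptReflA a) (Pi.single i 1) =
    refl5 2 (ptReflA b) (Pi.single i 1)) → a = b := by decide +kernel

/-- `O₆⁻(2)` is a reflection group over three elements. -/
theorem isRefl_minus {G : Type*} [Group G] [Finite G] {D : Set G} (h : IsOMinus G D 2) :
    ∃ μ c, IsRefl G D 5 μ c := by
  obtain ⟨e, he⟩ := h
  obtain ⟨B, C⟩ := exists_space_minus (F := ZMod 2) 2 1 1 (by decide)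
  obtain ⟨δ, hδ, hD, hT, hgen, hcen⟩ :=
    exists_orth_points C e he ptMinus tblMinus minus_pt minus_all minus_tbl minus_inj (by simp) minus_span
  exact isRefl_of_points (c := 2) (by decide) ptReflA tblMinus reflA_pt reflA_all reflA_tbl reflA_inj δ hδ hD hgen hcen hT

theorem uni_pt : ∀ p, h4 (ptUni p) (ptUni p) = 0 ∧ ptUni p ≠ 0 := by decide +kernel

theorem uni_all : ∀ v, h4 v v = 0 → v ≠ 0 →
    ∃ p, ∃ k : CosetEnum.GF4, k ≠ 0 ∧ v = fun i => k * ptUni p i := by decide +kernel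

theorem uni_tbl : ∀ a b, ∃ k : CosetEnum.GF4, k ≠ 0 ∧
    tv4 (ptUni a) (ptUni b) = fun i => k * ptUni (tblUni a b) i := by decide +kernel

theorem uni_ne : ∀ a b, a ≠ b → ∃ c, ∃ i : Fin 4,
    tv4 (ptUni a) (tv4 (ptUni b) (tv4 (ptUni c) (Pi.single i 1))) ≠
      tv4 (ptUni c) (tv4 (ptUni a) (tv4 (ptUni b) (Pi.single i 1))) := by decide +kernel

theorem reflB_pt : ∀ p, q5 (ptReflB p) = 1 := by decide +kernel

theorem reflB_all : ∀ v, q5 v = 1 → ∃ p, v = ptReflB p ∨ v = -ptReflB p := by decide +kernel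

theorem reflB_tbl : ∀ a b, refl5 1 (ptReflB a) (ptReflB b) = ptReflB (tblUni a b) ∨
    refl5 1 (ptReflB a) (ptReflB b) = -ptReflB (tblUni a b) := by decide +kernel

theorem reflB_inj : ∀ a b, (∀ i : Fin 5, refl5 1 (ptReflB a) (Pi.single i 1) =
    refl5 1 (ptReflB b) (Pi.single i 1)) → a = b := by decide +kernel

/-- `U₄(2)` is a reflection group over three elements. -/
theorem isRefl_unitary {G : Type*} [Group G] [Finite G] {D : Set G} (h : IsPSU G D 4) :
    ∃ μ c, IsRefl G D 5 μ c := by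
  obtain ⟨δ, hδ, hD, hT, hgen, hcen⟩ := exists_unitary_points h ptUni tblUni uni_pt uni_all uni_tbl uni_ne
  exact isRefl_of_points (c := 1) one_ne_zero ptReflB tblUni reflB_pt reflB_all reflB_tbl reflB_inj δ hδ hD hgen hcen hT

end Cfsg.Lib.Fischer.Thm.SmallIso

namespace Cfsg.Lib.Fischer.Thm

universe u

/-- The step. -/
theorem smallIsoStep : SmallIsoStep.{u} := fun _ _ _ _ =>
  ⟨SmallIso.isSym_eight, SmallIso.isRefl_minus, SmallIso.isRefl_unitary⟩

end Cfsg.Lib.Fischer.Thm
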