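import Cfsg.Agent.Lib.Fischer.Thm.M23.Class
import Cfsg.Agent.Lib.Fischer.Thm.Refl.Main

/-!
# Neighbourhoods of type M(22) give type M(23)

The common neighbours of a non-commuting pair form a Fischer class whose neighbourhoods are reflections in
dimension six; the reflection step makes them the reflections in dimension seven.
-/

set_option autoImplicit false
set_option linter.unusedSectionVars false
set_option linter.style.haveILetI false

namespace Cfsg.Lib.Fischer.Thm

open Cfsg Cfsg.Lib.Fischer Cfsg.Lib.Fischer.Relations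

universe u

namespace M23

/-- Cores are central when those of the central quotient are trivial. -/
theorem core_le_of_quot {H : Type*} [Group H] [Finite H] {p : ℕ}
    (h : Cfsg.pCore p (H ⧸ Subgroup.center H) = ⊥) : Cfsg.pCore p H ≤ Subgroup.center H := by
  have hle : (Cfsg.pCore p H).map (QuotientGroup.mk' (Subgroup.center H)) ≤ ⊥ := h ▸
    Lib.Core.le_pCore' (Subgroup.Normal.map inferInstance _ (QuotientGroup.mk'_surjective _))
      ((Lib.Core.pCore_isPGroup p H).map _)
  intro z hz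
  exact (QuotientGroup.eq_one_iff z).1 (Subgroup.mem_bot.1 (hle ⟨z, hz, rfl⟩))

variable {G : Type u} [Group G] [Finite G] {D : Set G}

/-- The common neighbours of a non-commuting pair form the reflection class in dimension seven. -/
theorem refl_common (hF : IsFischer D) {x : G} (hx : x ∈ D) (hc : CentralAt G D x)
    (h22 : Cfsg.IsOfTypeM22 (Loc G D x) (locSet G D x)) {e : G} (he : e ∈ D) (hxe : ¬ Commute x e)
    (C : Set G) (hC : C = common D x e) :
    IsRefl (↥(Subgroup.closure C) ⧸ Subgroup.center ↥(Subgroup.closure C)) (Relations.image C) 7 (-1) 1 := by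
  classical
  have hD := hF.toTrans
  haveI : Fact (Nat.Prime 3) := ⟨Nat.prime_three⟩
  have hCD : ∀ z ∈ C, z ∈ D := fun z hz => by rw [hC] at hz; exact hz.1.1
  have hloc : ∀ y ∈ C, (∃ a ∈ C ∩ perp D y, ∃ b ∈ C ∩ perp D y, a ≠ b ∧ Commute a b) ∧
      (∀ a ∈ C ∩ perp D y, ∃ b ∈ C ∩ perp D y, ¬ Commute a b) ∧ Trans (Relations.image (C ∩ perp D y)) ∧
      Cfsg.pCore 3 (↥(Subgroup.closure (C ∩ perp D y)) ⧸ Subgroup.center ↥(Subgroup.closure (C ∩ perp D y))) = ⊥ := by
    subst hC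
    intro y hy
    obtain ⟨-, h1, h2, h3, -, h4⟩ := local_class hF hx hc h22 he hxe hy
    exact ⟨h1, h2, h3, h4⟩
  have hconj : ∀ u ∈ Subgroup.closure C, ∀ z ∈ C, u * z * u⁻¹ ∈ C := fun u hu z hz => by
    rw [hC] at hu hz ⊢
    exact conj_common hF hu hz
  obtain ⟨y, hy⟩ : C.Nonempty := by rw [hC]; exact common_nonempty hF hx he hxe
  have hnc : ∀ a ∈ C, ∃ b ∈ C, ¬ Commute a b := fun a ha => by
    obtain ⟨w, hw, -⟩ := (hloc a ha).1
    obtain ⟨b, hb, hab⟩ := (hloc w hw.1).2.1 a ⟨ha, hCD a ha, hw.2.2.1.symm, hw.2.2.2.symm⟩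
    exact ⟨b, hb.1, hab⟩
  have binj := fun {a b : G} (ha : a ∈ C) (hb : b ∈ C) => bar_inj hD hCD hnc ha hb
  have bc := fun {a b : G} (ha : a ∈ C) (hb : b ∈ C) => bar_commute hD hCD ha hb
  obtain ⟨hg1, hg2, hg3⟩ := image_group hD hCD hconj hnc
  have hT : Trans (Relations.image C) := by
    refine ⟨hg1, hg2, fun p hp q hq => ?_, hg3, ⟨_, bar_mem hy⟩⟩
    obtain ⟨a, ha, rfl⟩ := exists_bar hp
    obtain ⟨b, hb, rfl⟩ := exists_bar hq
    subst hC
    obtain ⟨g, hg, rfl⟩ := (chain hF hx hc h22 he hxe ha hb).exists_conj hD hCD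
    exact ⟨QuotientGroup.mk ⟨g, hg⟩, rfl⟩
  obtain ⟨a₀, ha₀, -⟩ := (hloc y hy).1
  have hwE : ∃ p ∈ Relations.image C, ∃ q ∈ Relations.image C, p ≠ q ∧ Commute p q :=
    ⟨_, bar_mem hy, _, bar_mem ha₀.1, fun h => ha₀.2.2.1 (binj hy ha₀.1 h).symm, (bc hy ha₀.1).2 ha₀.2.2.2⟩
  have hne : ∃ p ∈ Relations.image C, ∃ q ∈ Relations.image C, p ≠ q := by
    obtain ⟨p, hp, q, hq, h, -⟩ := hwE; exact ⟨p, hp, q, hq, h⟩
  have h2 : Cfsg.pCore 2 (↥(Subgroup.closure C) ⧸ Subgroup.center ↥(Subgroup.closure C)) ≤ Subgroup.center _ := by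
    by_contra hcon
    obtain ⟨g, hg, hgd⟩ := exists_moved hT hcon (bar_mem hy)
    have hv := hT.conj g _ (bar_mem hy)
    obtain ⟨b, hb, e'⟩ := exists_bar hv
    have hs := (sameComm_iff hT (bar_mem hy) hv).2 (mul_conj_mem hT (bar_mem hy) hg)
    rw [← e'] at hs
    have hyb : y ≠ b := fun h => hgd (by subst h; exact e'.symm)
    have hcom : Commute y b := (bc hy hb).1 (commute_of_sameComm (bar_mem hy) hs)
    obtain ⟨w, hw, hyw⟩ := (hloc b hb).2.1 y ⟨hy, hCD y hy, hyb, hcom.symm⟩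
    exact hyw ((bc hy hw.1).1 ((hs _ (bar_mem hw.1)).2 ((bc hb hw.1).2 hw.2.2.2)))
  have h3 : Cfsg.pCore 3 (↥(Subgroup.closure C) ⧸ Subgroup.center ↥(Subgroup.closure C)) ≤ Subgroup.center _ := by
    by_contra hcon
    obtain ⟨g, hg, hgd⟩ := exists_moved hT hcon (bar_mem hy)
    have hv := hT.conj g _ (bar_mem hy)
    obtain ⟨b, hb, e'⟩ := exists_bar hv
    have hs := (samePerp_iff hT (bar_mem hy) hv).2 (mul_conj_mem hT (bar_mem hy) hg)
    rw [← e'] at hs
    have hsp : ∀ z ∈ C, z ∈ perp D y ↔ z ∈ perp D b := fun z hz => by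
      have h1 : ∀ {p : G} (hp : p ∈ C), z ∈ perp D p ↔ bar hz ∈ perp (Relations.image C) (bar hp) := fun {p} hp =>
        ⟨fun h => ⟨bar_mem hz, fun h' => h.2.1 (binj hz hp h'), (bc hp hz).2 h.2.2⟩,
          fun h => ⟨hCD z hz, fun h' => h.2.1 (by subst h'; rfl), (bc hp hz).1 h.2.2⟩⟩
      rw [h1 hy, h1 hb, hs]
    obtain ⟨w, hw, -⟩ := (hloc y hy).1
    have hwb : b ∈ C ∩ perp D w := ⟨hb, hCD b hb, fun h => (((hsp w hw.1).1 hw.2).2.1) h.symm,
      ((hsp w hw.1).1 hw.2).2.2.symm⟩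
    have hwy : y ∈ C ∩ perp D w := ⟨hy, hCD y hy, hw.2.2.1.symm, hw.2.2.2.symm⟩
    obtain ⟨-, hncw, hTw, h3w⟩ := hloc w hw.1
    have hSD : ∀ z ∈ C ∩ perp D w, z ∈ D := fun z hz => hCD z hz.1
    have hperp : perp (Relations.image (C ∩ perp D w)) (bar hwy) =
        perp (Relations.image (C ∩ perp D w)) (bar hwb) := by
      have key : ∀ {p q : G} (hp : p ∈ C ∩ perp D w) (hq : q ∈ C ∩ perp D w),
          (∀ z ∈ C, z ∈ perp D p → z ∈ perp D q) → ∀ r ∈ perp (Relations.image (C ∩ perp D w)) (bar hp),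
            r ∈ perp (Relations.image (C ∩ perp D w)) (bar hq) := by
        intro p q hp hq hpq r hr
        obtain ⟨z, hz, rfl⟩ := exists_bar hr.1
        have h := hpq z hz.1 ⟨hCD z hz.1, fun h => hr.2.1 (by subst h; rfl), (bar_commute hD hSD hp hz).1 hr.2.2⟩
        exact ⟨bar_mem hz, fun h' => h.2.1 (bar_inj hD hSD hncw hz hq h'), (bar_commute hD hSD hq hz).2 h.2.2⟩
      exact Set.Subset.antisymm (key hwy hwb fun z hz => (hsp z hz).1) (key hwb hwy fun z hz => (hsp z hz).2)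
    have hmem := mul_mem_three_of_samePerp hTw (bar_mem hwy) (bar_mem hwb) hperp
    rw [h3w, Subgroup.mem_bot, ← eq_inv_iff_mul_eq_one, inv_eq hTw (bar_mem hwb)] at hmem
    have hyb := bar_inj hD hSD hncw hwy hwb hmem
    subst hyb
    exact hgd e'.symm
  have hcen : Subgroup.center (↥(Subgroup.closure C) ⧸ Subgroup.center ↥(Subgroup.closure C)) = ⊥ := by
    rw [eq_bot_iff]
    intro g hg
    obtain ⟨g, rfl⟩ := QuotientGroup.mk_surjective g
    rw [Subgroup.mem_bot, QuotientGroup.eq_one_iff, Subgroup.mem_center_iff]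
    have hle : Subgroup.closure C ≤ Subgroup.centralizer {(g : G)} := by
      rw [Subgroup.closure_le]
      intro v hv
      have hv' := hconj g g.2 v hv
      have e' : bar hv' = bar hv := by
        have h := Subgroup.mem_center_iff.1 hg (bar hv)
        simp only [bar, ← QuotientGroup.mk_mul] at h ⊢
        rw [show (⟨(g : G) * v * (g : G)⁻¹, Subgroup.subset_closure hv'⟩ : Subgroup.closure C) =
          g * ⟨v, Subgroup.subset_closure hv⟩ * g⁻¹ from rfl, QuotientGroup.mk_mul, ← h, ← QuotientGroup.mk_mul,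
          mul_inv_cancel_right]
      exact Subgroup.mem_centralizer_singleton_iff.2 (mul_inv_eq_iff_eq_mul.1 (binj hv' hv e')).symm
    intro k
    exact Subtype.ext (Subgroup.mem_centralizer_singleton_iff.1 (hle k.2))
  obtain ⟨L, hLn, hL, -, hgf⟩ := exists_quasisimple hT hne h2 h3
  haveI := hLn
  have hconn : (Cfsg.commutingGraph (Relations.image C)).Connected := by
    haveI : Nonempty ↥(Relations.image C) := ⟨⟨_, bar_mem hy⟩⟩
    refine ⟨fun u v => ?_⟩
    obtain ⟨p, hp, ep⟩ := exists_bar u.2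
    obtain ⟨q, hq, eq'⟩ := exists_bar v.2
    have key : ∀ t, Link C p t → ∀ w : ↥(Relations.image C), (∀ ht : t ∈ C, bar ht = w.1) →
        (Cfsg.commutingGraph (Relations.image C)).Reachable u w := by
      intro t h
      induction h with
      | refl => intro w hw; rw [show w = u from Subtype.ext ((hw hp).symm.trans ep)]
      | @tail s t _ hst ih =>
        intro w hw
        refine (ih ⟨_, bar_mem hst.1⟩ fun _ => rfl).trans ?_
        by_cases h' : (⟨_, bar_mem hst.1⟩ : ↥(Relations.image C)) = w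
        · rw [h']
        · refine SimpleGraph.Adj.reachable ?_
          rw [Cfsg.commutingGraph, SimpleGraph.fromRel_adj]
          exact ⟨h', Or.inl (hw hst.2.1 ▸ (bc hst.1 hst.2.1).2 hst.2.2)⟩
    refine key q ?_ v fun _ => eq'
    subst hC
    exact linked hF hx hc h22 he hxe hp hq
  have hFE : IsFischer (Relations.image C) := isFischer_of_primitive hT
    (primitive_of_index hT hne h2 h3 hL hgf (index_le_two_of_connected hT hL hconn)) hwE hcen
  -- the neighbourhood of a member of the class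
  have hrefl := refl_local hF hx hc h22 he hxe (hC ▸ hy : y ∈ common D x e)
  rw [← hC] at hrefl
  have hloc6 : IsRefl (Loc (↥(Subgroup.closure C) ⧸ Subgroup.center ↥(Subgroup.closure C)) (Relations.image C) (bar hy))
      (locSet (↥(Subgroup.closure C) ⧸ Subgroup.center ↥(Subgroup.closure C)) (Relations.image C) (bar hy))
      6 1 1 := by
    obtain ⟨S, hS⟩ : ∃ S : Set ↥(Subgroup.closure C), S = {u : ↥(Subgroup.closure C) | (u : G) ∈ C ∩ perp D y} :=
      ⟨_, rfl⟩
    have hSconj : ∀ u ∈ Subgroup.closure S, ∀ s ∈ S, u * s * u⁻¹ ∈ S := fun u hu s hs => by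
      rw [hS] at hs ⊢
      have hle : Subgroup.closure S ≤ Subgroup.centralizer ({⟨y, Subgroup.subset_closure hy⟩} : Set ↥(Subgroup.closure C)) := by
        rw [Subgroup.closure_le, hS]
        exact fun w hw => Subgroup.mem_centralizer_singleton_iff.2 (Subtype.ext hw.2.2.2.eq.symm)
      have hfix : (u : G) * y * (u : G)⁻¹ = y := by
        have h := congrArg Subtype.val (Subgroup.mem_centralizer_singleton_iff.1 (hle hu))
        simp only [Subgroup.coe_mul] at h
        rw [h, mul_inv_cancel_right]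
      refine ⟨hconj u u.2 s hs.1, ?_⟩
      have := conj_perp hF (u : G) y hs.2
      rwa [hfix] at this
    refine (isRefl_map_iff (T := perp (Relations.image C) (bar hy)) (QuotientGroup.mk' _) S hSconj ?_ ?_).1
      ((isRefl_map_iff (T := C ∩ perp D y) (Subgroup.closure C).subtype S hSconj
        Subtype.val_injective.injOn ?_).2 hrefl)
    · intro u hu v hv h
      rw [hS] at hu hv
      exact Subtype.ext (binj hu.1 hv.1 h)
    · ext q
      constructor
      · rintro ⟨hq, hne', hcq⟩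
        obtain ⟨z, hz, rfl⟩ := exists_bar hq
        refine ⟨⟨z, Subgroup.subset_closure hz⟩, ?_, rfl⟩
        rw [hS]
        exact ⟨hz, hCD z hz, fun h => hne' (by subst h; rfl), (bc hy hz).1 hcq⟩
      · rintro ⟨u, hu, rfl⟩
        rw [hS] at hu
        exact ⟨bar_mem hu.1, fun h => hu.2.2.1 (binj hu.1 hy h), (bc hy hu.1).2 hu.2.2.2⟩
    · ext z
      refine ⟨fun hz => ⟨⟨z, Subgroup.subset_closure hz.1⟩, by rw [hS]; exact hz, rfl⟩, ?_⟩
      rintro ⟨v, hv, rfl⟩
      rw [hS] at hv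
      exact hv
  obtain ⟨-, -, c2, c3⟩ := refl_facts (by norm_num) hloc6
  have h7 := reflStep _ _ hFE (bar hy) (bar_mem hy) ⟨core_le_of_quot c2, core_le_of_quot c3⟩ 6 1 1 (by norm_num) hloc6
  simpa using h7

end M23

/-- Neighbourhoods of type M(22) give type M(23). -/
theorem m23Step : MTwentyThreeStep.{u} := by
  intro G _ _ D hF x hx hc h22
  obtain ⟨e, he, hxe⟩ := exists_not_commute hF hx
  obtain ⟨Q, hQ, hdet, h1, f, -⟩ := M23.refl_common hF hx hc h22 he hxe
    ({y : G | y ∈ D ∧ y ≠ x ∧ Commute x y} ∩ {y : G | y ∈ D ∧ y ≠ e ∧ Commute e y}) (inner_eq_common hxe)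
  refine ⟨?_, x, hx, e, he, hxe, h22, 1, one_ne_zero, Q, hQ, hdet, ⟨f⟩⟩
  rw [eq_bot_iff]
  intro z hz
  exact Subgroup.mem_bot.2 (Polar.center_trivial hF fun d _ => (Subgroup.mem_center_iff.1 hz d).symm)

end Cfsg.Lib.Fischer.Thm
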