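import Mathlib

/-!
# A regular induced subgraph of the graph with parameters (31671, 3510, 693, 351) has at most 3240 points

Count, for the points outside the subset, the neighbours inside: the sum and the sum of squares leave room for at
most 3240 points when every point inside has 351 neighbours inside.
-/

set_option autoImplicit false

namespace Cfsg.Lib.Fischer.Thm

open Finset

theorem regular_bound {α : Type*} [DecidableEq α] (P S : Finset α) (r : α → α → Prop) [DecidableRel r]
    (hSP : S ⊆ P) (hP : P.card = 31671) (hk : ∀ a ∈ S, (P.filter fun u => r u a).card = 3510)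
    (hl : ∀ a ∈ S, ∀ b ∈ S, a ≠ b → (P.filter fun u => r u a ∧ r u b).card = if r b a then 693 else 351)
    (hs : ∀ a ∈ S, (S.filter fun b => r b a).card = 351)
    (hs' : ∀ u ∈ S, (S.filter fun b => r u b).card = 351) (hirr : ∀ a, ¬ r a a) :
    S.card ≤ 3240 := by
  obtain ⟨f, hf⟩ : ∃ f : α → ℤ, ∀ u, f u = ((S.filter fun a => r u a).card : ℤ) := ⟨_, fun _ => rfl⟩
  obtain ⟨m, hm⟩ : ∃ m : ℤ, m = (S.card : ℤ) := ⟨_, rfl⟩
  have hsum : ∑ u ∈ P, f u = 3510 * m := by
    simp only [hf, Finset.card_filter, Nat.cast_sum]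
    rw [Finset.sum_comm, Finset.sum_congr rfl fun a ha => ?_, Finset.sum_const, nsmul_eq_mul, hm, mul_comm]
    rw [← Nat.cast_sum, ← Finset.card_filter, hk a ha]
    rfl
  have hsq : ∑ u ∈ P, f u ^ 2 = 3510 * m + 351 * 693 * m + 351 * m * (m - 352) := by
    have h1 : ∀ u, f u ^ 2 = ∑ a ∈ S, ∑ b ∈ S, (if r u a ∧ r u b then (1 : ℤ) else 0) := fun u => by
      simp only [hf, Finset.card_filter, Nat.cast_sum, pow_two, Finset.sum_mul_sum]
      refine Finset.sum_congr rfl fun a _ => Finset.sum_congr rfl fun b _ => ?_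
      by_cases ha : r u a <;> by_cases hb : r u b <;> simp [ha, hb]
    have h2 : ∀ a ∈ S, ∀ b ∈ S, (∑ u ∈ P, (if r u a ∧ r u b then (1 : ℤ) else 0)) =
        351 + (if r b a then 342 else 0) + (if b = a then 3159 else 0) := fun a ha b hb => by
      rw [← Finset.natCast_card_filter]
      by_cases e : b = a
      · subst e
        simp only [and_self, hk b hb, if_neg (hirr b), if_pos]
        norm_num
      · rw [hl a ha b hb (Ne.symm e), if_neg e]
        split_ifs <;> norm_num
    simp only [h1]
    rw [Finset.sum_comm, Finset.sum_congr rfl fun a ha => ?_]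
    rotate_left
    · exact fun a => 351 * m + 342 * 351 + 3159
    · rw [Finset.sum_comm, Finset.sum_congr rfl (h2 a ha), Finset.sum_add_distrib, Finset.sum_add_distrib,
        Finset.sum_const, Finset.sum_ite_eq' S a fun _ => (3159 : ℤ), if_pos ha, ← Finset.sum_filter,
        Finset.sum_const, hs a ha, hm]
      simp only [nsmul_eq_mul]
      push_cast
      ring
    rw [Finset.sum_const, nsmul_eq_mul, ← hm]
    ring
  have hin : ∀ u ∈ S, f u = 351 := fun u hu => by rw [hf, hs' u hu]; rfl
  have e1 : ∑ u ∈ P \ S, f u = 3159 * m := by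
    have := Finset.sum_sdiff hSP (f := f)
    rw [hsum, Finset.sum_congr rfl hin, Finset.sum_const, nsmul_eq_mul, ← hm] at this
    linarith
  have e2 : ∑ u ∈ P \ S, f u ^ 2 = 351 * m ^ 2 := by
    have := Finset.sum_sdiff hSP (f := fun u => f u ^ 2)
    have h4 : ∑ u ∈ S, f u ^ 2 = ∑ _u ∈ S, (351 : ℤ) ^ 2 := Finset.sum_congr rfl fun u hu => by rw [hin u hu]
    rw [hsq, h4, Finset.sum_const, nsmul_eq_mul, ← hm] at this
    linarith
  have hcs := sq_sum_le_card_mul_sum_sq (s := P \ S) (f := f)
  rw [e1, e2, Finset.card_sdiff_of_subset hSP, hP, Nat.cast_sub (hP ▸ Finset.card_le_card hSP), ← hm] at hcs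
  push_cast at hcs
  rcases Nat.eq_zero_or_pos S.card with h0 | h0
  · omega
  have hpos : 0 < m ^ 2 := by rw [hm]; positivity
  have : m * m ^ 2 ≤ 3240 * m ^ 2 := by nlinarith
  have := le_of_mul_le_mul_right this hpos
  omega

end Cfsg.Lib.Fischer.Thm
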