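import Cfsg.Agent.Lib.Fischer.Thm.Counts
import Cfsg.Agent.Lib.Fischer.Clone.Arith

/-!
# The commuting graph of a class has integral eigenvalues

For a strongly regular graph either the discriminant is a square or the two eigenvalues are equally frequent;
in the first case the eigenvalues, moved by one, multiply to `λ + 1 - k`.
-/

set_option autoImplicit false
set_option linter.unusedSectionVars false

namespace Cfsg.Lib.Fischer.Thm

open Matrix Cfsg Cfsg.Lib.Fischer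

/-- The discriminant of a strongly regular adjacency matrix, or equally frequent eigenvalues. -/
theorem srg_discriminant {V : Type*} [Fintype V] [DecidableEq V] (A : Matrix V V ℝ) {v k l n : ℤ}
    (hv : 0 < v) (hcard : (Fintype.card V : ℤ) = v) (hΔ : 0 < (l - n) ^ 2 + 4 * (k - n))
    (hpar : k * k = k + l * k + n * (v - 1 - k))
    (hA2 : A * A = (k : ℝ) • 1 + (l : ℝ) • A + (n : ℝ) • (Matrix.of (fun _ _ => 1) - 1 - A))
    (hAJ : A * Matrix.of (fun _ _ => 1) = (k : ℝ) • Matrix.of (fun _ _ => 1))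
    (hJA : Matrix.of (fun _ _ => 1) * A = (k : ℝ) • Matrix.of (fun _ _ => 1))
    (htA : A.trace = 0) :
    (∃ s : ℤ, s ^ 2 = (l - n) ^ 2 + 4 * (k - n)) ∨ 2 * k + (v - 1) * (l - n) = 0 := by
  have hcardR : (Fintype.card V : ℝ) = v := by exact_mod_cast hcard
  obtain ⟨J, hJ⟩ : ∃ J : Matrix V V ℝ, J = Matrix.of fun _ _ => 1 := ⟨_, rfl⟩
  rw [← hJ] at hA2 hAJ hJA
  have hJJ : J * J = (v : ℝ) • J := by
    ext i j; simp [hJ, Matrix.mul_apply, hcardR]
  have hparR : (k : ℝ) * k = k + l * k + n * (v - 1 - k) := by exact_mod_cast hpar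
  obtain ⟨Δ, hΔe⟩ : ∃ Δ : ℤ, Δ = (l - n) ^ 2 + 4 * (k - n) := ⟨_, rfl⟩
  rw [← hΔe] at hΔ ⊢
  by_cases hτ : 2 * k + (v - 1) * (l - n) = 0
  · exact Or.inr hτ
  left
  obtain ⟨s, hs⟩ : ∃ s : ℝ, s = Real.sqrt (Δ : ℝ) := ⟨_, rfl⟩
  have hΔR : (0 : ℝ) < (Δ : ℝ) := by exact_mod_cast hΔ
  have hs0 : s ≠ 0 := hs ▸ (Real.sqrt_pos.2 hΔR).ne'
  have hss : s * s = (Δ : ℝ) := hs ▸ Real.mul_self_sqrt hΔR.le
  have hΔe' : (Δ : ℝ) = ((l : ℝ) - n) ^ 2 + 4 * (k - n) := by rw [hΔe]; push_cast; ring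
  have hv0 : (v : ℝ) ≠ 0 := by exact_mod_cast hv.ne'
  obtain ⟨E, hE⟩ : ∃ E : Matrix V V ℝ, E = (v : ℝ) • 1 - J := ⟨_, rfl⟩
  obtain ⟨N, hN⟩ : ∃ N : Matrix V V ℝ,
      N = (v : ℝ) • ((2 : ℝ) • A - ((l : ℝ) - n) • 1) - (2 * (k : ℝ) - (l - n)) • J := ⟨_, rfl⟩
  have hEE : E * E = (v : ℝ) • E := by
    simp only [hE, sub_mul, mul_sub, smul_mul_assoc, mul_smul_comm, one_mul, mul_one, hJJ, smul_sub, smul_smul]
    module
  have hEN : E * N = (v : ℝ) • N := by
    simp only [hE, hN, sub_mul, mul_sub, smul_mul_assoc, mul_smul_comm, one_mul, mul_one, hJJ, hJA,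
      smul_sub, smul_smul]
    module
  have hNE : N * E = (v : ℝ) • N := by
    simp only [hE, hN, sub_mul, mul_sub, smul_mul_assoc, mul_smul_comm, one_mul, mul_one, hJJ, hAJ,
      smul_sub, smul_smul]
    module
  have hNN : N * N = ((v : ℝ) * (Δ : ℝ)) • E := by
    simp only [hE, hN, sub_mul, mul_sub, smul_mul_assoc, mul_smul_comm, one_mul, mul_one,
      hJJ, hAJ, hJA, hA2, smul_sub, smul_add, smul_smul]
    rw [hΔe']
    match_scalars <;> first | ring1 | linear_combination (-4 * (v : ℝ)) * hparR |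
      linear_combination (4 * (v : ℝ)) * hparR
  obtain ⟨P, hP⟩ : ∃ P : Matrix V V ℝ, P = (2 * (v : ℝ))⁻¹ • E + (2 * (v : ℝ) * s)⁻¹ • N := ⟨_, rfl⟩
  have hPP : P * P = P := by
    simp only [hP, add_mul, mul_add, smul_mul_assoc, mul_smul_comm, hEE, hEN, hNE, hNN, smul_smul, smul_add]
    match_scalars <;> field_simp <;> first | ring1 | linear_combination -hss | linear_combination hss
  obtain ⟨r, hr⟩ := Clone.trace_idempotent hPP
  have htJ : J.trace = v := by simp [hJ, Matrix.trace, hcardR]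
  have ht1 : (1 : Matrix V V ℝ).trace = v := by rw [Matrix.trace_one, hcardR]
  simp only [hP, hE, hN, Matrix.trace_add, Matrix.trace_sub, Matrix.trace_smul, smul_eq_mul, htJ, htA, ht1] at hr
  have key : (2 * (r : ℝ) - ((v : ℝ) - 1)) * s = -(2 * k + ((v : ℝ) - 1) * (l - n)) := by
    rw [← hr]
    field_simp
    ring
  obtain ⟨c, hc⟩ : ∃ c : ℤ, c = 2 * (r : ℤ) - (v - 1) := ⟨_, rfl⟩
  obtain ⟨τ, hτ'⟩ : ∃ τ : ℤ, τ = -(2 * k + (v - 1) * (l - n)) := ⟨_, rfl⟩
  have hR : c ^ 2 * Δ = τ ^ 2 := by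
    have : ((c ^ 2 * Δ : ℤ) : ℝ) = ((τ ^ 2 : ℤ) : ℝ) := by
      rw [hc, hτ']
      push_cast
      rw [← key, ← hss]
      ring
    exact_mod_cast this
  obtain ⟨q, hq⟩ := (Int.pow_dvd_pow_iff (by norm_num : (2 : ℕ) ≠ 0)).1 (Dvd.intro Δ hR)
  refine ⟨q, ?_⟩
  have hc0 : c ≠ 0 := fun e => hτ (by
    rw [e, zero_mul] at hq
    rw [hq] at hτ'
    linarith)
  have : c ^ 2 * Δ = c ^ 2 * q ^ 2 := by rw [hR, hq]; ring
  exact (mul_left_cancel₀ (pow_ne_zero 2 hc0) this).symm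

/-- A square discriminant: the eigenvalues `d - 1` and `-q - 1` are integers. -/
theorem eigenvalues {k l n : ℕ} (hn : n < k) (hl : l + 1 < k) {s : ℤ}
    (hs : s ^ 2 = ((l : ℤ) - n) ^ 2 + 4 * ((k : ℤ) - n)) :
    ∃ d q : ℕ, d * q + l + 1 = k ∧ n + d = l + 2 + q := by
  obtain ⟨t, ht, ht0⟩ : ∃ t : ℤ, t ^ 2 = ((l : ℤ) - n) ^ 2 + 4 * ((k : ℤ) - n) ∧ 0 ≤ t :=
    ⟨|s|, by rw [sq_abs]; exact hs, abs_nonneg s⟩
  have heven : Even (t - ((l : ℤ) - n)) := by
    have : Even (t ^ 2 - ((l : ℤ) - n) ^ 2) := ⟨2 * ((k : ℤ) - n), by rw [ht]; ring⟩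
    rw [Int.even_sub, Int.even_pow' two_ne_zero, Int.even_pow' two_ne_zero] at this
    rwa [Int.even_sub]
  obtain ⟨c, hc⟩ := heven
  have hd : 1 ≤ c + ((l : ℤ) - n) + 1 := by
    have h1 : (t - ((l : ℤ) - n)) * (t + ((l : ℤ) - n)) = 4 * ((k : ℤ) - n) := by linear_combination ht
    by_contra hcon
    nlinarith
  have hprod : (c + ((l : ℤ) - n) + 1) * (c - 1) = (k : ℤ) - 1 - l := by
    have e : t = 2 * c + ((l : ℤ) - n) := by linarith
    rw [e] at ht
    linarith
  have hq : 0 ≤ c - 1 := by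
    by_contra hcon
    nlinarith
  obtain ⟨d, hd'⟩ := Int.eq_ofNat_of_zero_le (show 0 ≤ c + ((l : ℤ) - n) + 1 by linarith)
  obtain ⟨q, hq'⟩ := Int.eq_ofNat_of_zero_le hq
  rw [hd', hq'] at hprod
  refine ⟨d, q, ?_, ?_⟩
  · have : ((d * q + l + 1 : ℕ) : ℤ) = k := by push_cast; linarith
    exact_mod_cast this
  · omega

variable {G : Type*} [Group G] [Finite G] {D : Set G} (hF : IsFischer D)
include hF

/-- The possible parameters of the commuting graph. -/
theorem parameters {x y e : G} (hx : x ∈ D) (hy : y ∈ perp D x) (he : e ∈ D) (hxe : ¬ Commute x e) :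
    0 < (inner D x e).ncard ∧ (inner D x e).ncard < (perp D x).ncard ∧ 0 < (far D x).ncard ∧
      (inner D x y).ncard + 1 < (perp D x).ncard ∧
      (inner D x e).ncard * (far D x).ncard + (perp D x).ncard * ((inner D x y).ncard + 1) =
        (perp D x).ncard * (perp D x).ncard ∧
      ((∃ d q : ℕ, d * q + (inner D x y).ncard + 1 = (perp D x).ncard ∧
          (inner D x e).ncard + d = (inner D x y).ncard + 2 + q) ∨
        ((perp D x).ncard + (far D x).ncard) * (inner D x e).ncard =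
          2 * (perp D x).ncard + ((perp D x).ncard + (far D x).ncard) * (inner D x y).ncard) := by
  classical
  have hcount := count hF hx he hxe hy
  obtain ⟨k, hk⟩ : ∃ k, k = (perp D x).ncard := ⟨_, rfl⟩
  obtain ⟨l, hl⟩ : ∃ l, l = (inner D x y).ncard := ⟨_, rfl⟩
  obtain ⟨n, hn⟩ : ∃ n, n = (inner D x e).ncard := ⟨_, rfl⟩
  obtain ⟨L, hL⟩ : ∃ L, L = (far D x).ncard := ⟨_, rfl⟩
  rw [← hk, ← hl, ← hn, ← hL] at hcount ⊢
  have hk0 : 0 < k := hk ▸ Set.ncard_pos (Set.toFinite _) |>.2 ⟨y, hy⟩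
  have hL0 : 0 < L := hL ▸ Set.ncard_pos (Set.toFinite _) |>.2 ⟨e, he, hxe⟩
  have hn0 : 0 < n := by
    rw [hn, inner_eq_common hxe]
    exact Set.ncard_pos (Set.toFinite _) |>.2 (common_nonempty hF hx he hxe)
  have hlk : l + 1 < k := by nlinarith
  have hnk : n < k := by
    refine lt_of_le_of_ne (hn ▸ hk ▸ Set.ncard_le_ncard (fun z hz => hz.1) (Set.toFinite _)) fun heq => ?_
    have hsame : inner D x e = perp D x :=
      Set.eq_of_subset_of_ncard_le (fun z hz => hz.1) (by rw [← hn, ← hk, heq]) (Set.toFinite _)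
    have hsame' : inner D x e = perp D e :=
      Set.eq_of_subset_of_ncard_le (fun z hz => hz.2) (by rw [perp_card hF hx he, ← hn, ← hk, heq]) (Set.toFinite _)
    have h := eq_of_perp_subset hF hx he (by rw [← hsame, hsame'])
    exact hxe (h ▸ Commute.refl x)
  refine ⟨hn0, hnk, hL0, hlk, hcount, ?_⟩
  haveI : Fintype G := Fintype.ofFinite G
  let adj : D → D → Prop := fun p q => (p : G) ≠ q ∧ Commute (p : G) q
  have hdeg : ∀ p : D, ((Finset.univ.filter (adj p)).card : ℝ) = k := by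
    intro p
    rw [hk, ← perp_card hF hx p.2, ← Set.ncard_coe_finset, Nat.cast_inj]
    rw [← Set.ncard_image_of_injective (f := fun q : D => (q : G)) _ Subtype.val_injective]
    congr 1
    ext z
    simp only [Set.mem_image, Finset.coe_filter, Finset.mem_univ, true_and, Set.mem_ofPred, adj, perp]
    exact ⟨fun ⟨q, ⟨h1, h2⟩, e'⟩ => e' ▸ ⟨q.2, fun e'' => h1 e''.symm, h2⟩,
      fun ⟨h1, h2, h3⟩ => ⟨⟨z, h1⟩, ⟨fun e'' => h2 e''.symm, h3⟩, rfl⟩⟩
  have hcom : ∀ p q : D, p ≠ q → ((Finset.univ.filter fun r => adj p r ∧ adj q r).card : ℝ) =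
      if Commute (p : G) q then (l : ℝ) else (n : ℝ) := by
    intro p q hpq
    have hc : (Finset.univ.filter fun r => adj p r ∧ adj q r).card = (inner D (p : G) q).ncard := by
      rw [← Set.ncard_coe_finset, ← Set.ncard_image_of_injective (f := fun r : D => (r : G)) _ Subtype.val_injective]
      congr 1
      ext z
      simp only [Set.mem_image, Finset.coe_filter, Finset.mem_univ, true_and, Set.mem_ofPred, adj, inner, perp,
        Set.mem_inter_iff]
      exact ⟨fun ⟨r, ⟨⟨h1, h2⟩, h3, h4⟩, e'⟩ => e' ▸ ⟨⟨r.2, fun e'' => h1 e''.symm, h2⟩, r.2,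
          fun e'' => h3 e''.symm, h4⟩,
        fun ⟨⟨h1, h2, h3⟩, _, h5, h6⟩ => ⟨⟨z, h1⟩, ⟨⟨fun e'' => h2 e''.symm, h3⟩, fun e'' => h5 e''.symm, h6⟩, rfl⟩⟩
    rw [hc]
    split_ifs with h
    · rw [inner_near hF hx hy p.2 ⟨q.2, fun e' => hpq (Subtype.ext e'.symm), h⟩, ← hl]
    · rw [inner_far hF hx he hxe p.2 q.2 h, ← hn]
  obtain ⟨A, hA⟩ : ∃ A : Matrix D D ℝ, A = Matrix.of fun p q => if adj p q then 1 else 0 := ⟨_, rfl⟩
  have hsym : ∀ p q : D, adj p q ↔ adj q p := fun p q =>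
    ⟨fun h => ⟨h.1.symm, h.2.symm⟩, fun h => ⟨h.1.symm, h.2.symm⟩⟩
  have hA2 : A * A = ((k : ℤ) : ℝ) • 1 + ((l : ℤ) : ℝ) • A +
      ((n : ℤ) : ℝ) • (Matrix.of (fun _ _ => 1) - 1 - A) := by
    ext p q
    have hpq : (A * A) p q = ((Finset.univ.filter fun r => adj p r ∧ adj q r).card : ℝ) := by
      rw [Matrix.mul_apply, Finset.card_filter]
      push_cast
      refine Finset.sum_congr rfl fun r _ => ?_
      simp only [hA, Matrix.of_apply, hsym r q]
      by_cases h1 : adj p r <;> by_cases h2 : adj q r <;> simp [h1, h2]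
    rw [hpq]
    by_cases e' : p = q
    · subst e'
      simp only [and_self, hdeg]
      have hn' : ¬ adj p p := fun h => h.1 rfl
      simp [hA, hn']
    · rw [hcom p q e']
      have hne : (p : G) ≠ q := fun h => e' (Subtype.ext h)
      by_cases h : Commute (p : G) q <;> simp [hA, adj, h, e', hne]
  have hAJ : A * Matrix.of (fun _ _ => 1) = ((k : ℤ) : ℝ) • Matrix.of (fun _ _ => 1) := by
    ext p q
    have h := hdeg p
    rw [Finset.card_filter] at h
    push_cast at h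
    simp only [Matrix.mul_apply, hA, Matrix.of_apply, mul_one, Matrix.smul_apply, smul_eq_mul, Int.cast_natCast]
    rw [← h]
  have hJA : Matrix.of (fun _ _ => 1) * A = ((k : ℤ) : ℝ) • Matrix.of (fun _ _ => 1) := by
    ext p q
    have h := hdeg q
    rw [Finset.card_filter] at h
    push_cast at h
    simp only [Matrix.mul_apply, hA, Matrix.of_apply, one_mul, Matrix.smul_apply, smul_eq_mul, mul_one, Int.cast_natCast]
    rw [← h]
    exact Finset.sum_congr rfl fun r _ => if_congr (hsym r q) rfl rfl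
  have htA : A.trace = 0 := by simp [hA, Matrix.trace, adj]
  have hv : D.ncard = k + 1 + L := by
    have : D = insert x (perp D x) ∪ far D x := by
      ext z
      constructor
      · intro hz
        by_cases hc : Commute x z
        · rcases eq_or_ne z x with h | h
          · exact Or.inl (Or.inl h)
          · exact Or.inl (Or.inr ⟨hz, h, hc⟩)
        · exact Or.inr ⟨hz, hc⟩
      · rintro ((rfl | h) | h)
        exacts [hx, h.1, h.1]
    rw [this, Set.ncard_union_eq, Set.ncard_insert_of_notMem fun h => h.2.1 rfl, ← hk, ← hL]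
    rw [Set.disjoint_left]
    rintro z (rfl | h) hz
    exacts [hz.2 (Commute.refl z), hz.2 h.2.2]
  have hcard : ((Fintype.card D : ℕ) : ℤ) = ((D.ncard : ℕ) : ℤ) := by
    rw [← Nat.card_eq_fintype_card, Nat.card_coe_set_eq]
  have hcountZ : (n : ℤ) * L + k * (l + 1) = k * k := by exact_mod_cast hcount
  rcases srg_discriminant A (v := (D.ncard : ℤ)) (k := k) (l := l) (n := n)
      (by rw [hv]; positivity) hcard (by nlinarith [sq_nonneg ((l : ℤ) - n)])
      (by rw [hv]; push_cast; linarith) hA2 hAJ hJA htA with ⟨s, hs⟩ | h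
  · exact Or.inl (eigenvalues hnk hlk hs)
  · right
    rw [hv] at h
    push_cast at h
    have : (((k + L) * n : ℕ) : ℤ) = ((2 * k + (k + L) * l : ℕ) : ℤ) := by push_cast; linarith
    exact_mod_cast this

end Cfsg.Lib.Fischer.Thm
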