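import Cfsg.Agent.Lib.Fischer.Thm.M24Local
import Cfsg.Agent.Lib.Fischer.Thm.Square
import Cfsg.Agent.Lib.Fischer.Thm.RegularBound
import Cfsg.Agent.Lib.Fischer.TypeM24.Main
import Cfsg.Agent.Lib.Fischer.M24Exist.PresentedFi24

/-!
# Neighbourhoods of type M(23) give type M(24)

The eigenvalues and a bound on regular subgraphs leave 3240 common neighbours of two non-commuting members.
Their group is transitive on them, which gives its order the divisor needed for the data of type M(24), and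
two such data belong to isomorphic groups.
-/

set_option autoImplicit false
set_option linter.unusedSectionVars false

namespace Cfsg.Lib.Fischer.Thm

open Cfsg Cfsg.Lib.Fischer Cfsg.Lib.Fischer.Relations

universe u

/-- The eigenvalue candidates. -/
theorem m24_check {d q : ℕ} (hdq : d * q = 28160) :
    ¬ (d < 3512 + q ∧ 3512 + q < d + 3241 ∧ (3512 + q - d) ∣ 31671 * 28160 ∧ 3512 + q - d ≠ 3240) := by
  have key : ∀ i ∈ Nat.divisors 512, ∀ a ∈ [1, 5], ∀ b ∈ [1, 11],
      ¬ (i * (a * b) < 3512 + 28160 / (i * (a * b)) ∧ 3512 + 28160 / (i * (a * b)) < i * (a * b) + 3241 ∧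
        (3512 + 28160 / (i * (a * b)) - i * (a * b)) ∣ 31671 * 28160 ∧
        3512 + 28160 / (i * (a * b)) - i * (a * b) ≠ 3240) := by decide +kernel
  have hd0 : 0 < d := Nat.pos_of_ne_zero fun e => by simp [e] at hdq
  obtain ⟨i, j, hi, hj, rfl⟩ := exists_dvd_and_dvd_of_dvd_mul (show d ∣ 512 * 55 from ⟨q, by omega⟩)
  obtain ⟨a, b, ha, hb, rfl⟩ := exists_dvd_and_dvd_of_dvd_mul (show j ∣ 5 * 11 from hj)
  have hq : q = 28160 / (i * (a * b)) :=
    (Nat.div_eq_of_eq_mul_left hd0 (by rw [mul_comm]; exact hdq.symm)).symm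
  have ha' := (Nat.dvd_prime (by norm_num)).1 ha
  have hb' := (Nat.dvd_prime (by norm_num)).1 hb
  rw [hq]
  exact key i (Nat.mem_divisors.2 ⟨hi, by norm_num⟩) a (by simpa using ha') b (by simpa using hb')

variable {G : Type u} [Group G] [Finite G] {D : Set G}

section
variable (hF : IsFischer D) (hloc : ∀ a ∈ D, Loc23 (locSet G D a)) {x e : G} (hx : x ∈ D) (he : e ∈ D)
  (hxe : ¬ Commute x e)
include hF hloc hx he hxe

/-- Each common neighbour has 351 common neighbours next to it. -/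
theorem common_valency {u : G} (hu : u ∈ common D x e) : (common D x e ∩ perp D u).ncard = 351 := by
  have hxu : x ∈ perp D u := ⟨hx, hu.1.2.1.symm, hu.1.2.2.symm⟩
  have heu : e ∈ perp D u := ⟨he, fun h => hxe (h ▸ hu.1.2.2), hu.2.symm⟩
  have hnc : ¬ Commute (bar hxu) (bar heu) := fun h =>
    hxe ((bar_commute hF.toTrans (fun _ h => h.1) hxu heu).1 h)
  rw [← (hloc u hu.1.1).far _ (bar_mem hxu) _ (bar_mem heu) hnc, ← ncard_triple hF hu.1.1 hxu heu,
    ← inner_eq_common hxe]
  congr 1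
  ext z
  exact ⟨fun h => ⟨⟨h.2, h.1.1⟩, h.1.2⟩, fun h => ⟨⟨h.1.2, h.2⟩, h.1.1⟩⟩

/-- The number of common neighbours is at most 3240. -/
theorem common_le : (common D x e).ncard ≤ 3240 := by
  classical
  haveI : Fintype G := Fintype.ofFinite G
  have hS : common D x e ⊆ perp D x := fun u hu => hu.1
  obtain ⟨P, hP⟩ : ∃ P : Finset G, P = (perp D x).toFinset := ⟨_, rfl⟩
  obtain ⟨S, hS'⟩ : ∃ S : Finset G, S = (common D x e).toFinset := ⟨_, rfl⟩
  have hcardS : S.card = (common D x e).ncard := by rw [hS', Set.ncard_eq_toFinset_card']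
  have hfil : ∀ (Q : Set G) (p : G → Prop) [DecidablePred p], (Q.toFinset.filter p).card = {u | u ∈ Q ∧ p u}.ncard :=
    fun Q p _ => by
      rw [Set.ncard_eq_toFinset_card']
      congr 1
      ext u
      simp
  rw [← hcardS]
  refine regular_bound P S (fun u a => u ≠ a ∧ Commute a u) ?_ ?_ (fun a ha => ?_) (fun a ha b hb hab => ?_)
    (fun a ha => ?_) (fun a ha => ?_) (fun a h => h.1 rfl)
  · rw [hP, hS', Set.toFinset_subset_toFinset]; exact hS
  · rw [hP, ← Set.ncard_eq_toFinset_card', ncard_locSet hF hx, (hloc x hx).card]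
  · rw [hS', Set.mem_toFinset] at ha
    rw [hP, hfil, ← (hloc x hx).perp_card _ (bar_mem (hS ha)), ← ncard_inner_loc hF hx (hS ha)]
    congr 1
    ext z
    exact ⟨fun h => ⟨h.1, h.1.1, h.2.1, h.2.2⟩, fun h => ⟨h.1, h.2.2.1, h.2.2.2⟩⟩
  · rw [hS', Set.mem_toFinset] at ha hb
    have hset : {u | u ∈ perp D x ∧ (u ≠ a ∧ Commute a u) ∧ u ≠ b ∧ Commute b u} = inner D x a ∩ perp D b := by
      ext z
      exact ⟨fun h => ⟨⟨h.1, h.1.1, h.2.1.1, h.2.1.2⟩, h.1.1, h.2.2.1, h.2.2.2⟩,
        fun h => ⟨h.1.1, ⟨h.1.2.2.1, h.1.2.2.2⟩, h.2.2.1, h.2.2.2⟩⟩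
    rw [hP, hfil, hset, ncard_triple hF hx (hS ha) (hS hb)]
    have hne : bar (hS hb) ≠ bar (hS ha) := fun h => hab (bar_inj hF.toTrans (fun _ h => h.1) (fun u hu =>
      exists_perp_noncommute hF.toTrans (fun a ha b hb h => eq_of_commute_iff hF ha hb h) hx hu) (hS hb) (hS ha) h).symm
    by_cases hc : Commute a b
    · rw [if_pos ⟨Ne.symm hab, hc⟩]
      exact (hloc x hx).near _ (bar_mem (hS ha)) _
        ⟨bar_mem (hS hb), hne, (bar_commute hF.toTrans (fun _ h => h.1) (hS ha) (hS hb)).2 hc⟩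
    · rw [if_neg fun h => hc h.2]
      exact (hloc x hx).far _ (bar_mem (hS ha)) _ (bar_mem (hS hb)) fun h =>
        hc ((bar_commute hF.toTrans (fun _ h => h.1) (hS ha) (hS hb)).1 h)
  · rw [hS', Set.mem_toFinset] at ha
    rw [hS', hfil, ← common_valency hF hloc hx he hxe ha]
    congr 1
    ext z
    exact ⟨fun h => ⟨h.1, h.1.1.1, h.2.1, h.2.2⟩, fun h => ⟨h.1, h.2.2.1, h.2.2.2⟩⟩
  · rw [hS', Set.mem_toFinset] at ha
    rw [hS', hfil, ← common_valency hF hloc hx he hxe ha]
    congr 1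
    ext z
    exact ⟨fun h => ⟨h.1, h.1.1.1, fun e' => h.2.1 e'.symm, h.2.2.symm⟩,
      fun h => ⟨h.1, fun e' => h.2.2.1 e'.symm, h.2.2.2.symm⟩⟩

/-- There are 3240 common neighbours. -/
theorem common_card : (common D x e).ncard = 3240 := by
  obtain ⟨y, hy, hyx, hxy⟩ := exists_perp hF hx
  have hy' : y ∈ perp D x := ⟨hy, hyx, hxy⟩
  obtain ⟨hn, hnk, hL, -, hcount, hev⟩ := parameters hF hx hy' he hxe
  have hle := common_le hF hloc hx he hxe
  rw [← inner_eq_common hxe] at hle ⊢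
  have hk : (perp D x).ncard = 31671 := by rw [ncard_locSet hF hx]; exact (hloc x hx).card
  have hl : (inner D x y).ncard = 3510 := by
    rw [ncard_inner_loc hF hx hy']
    exact (hloc x hx).perp_card _ (bar_mem hy')
  obtain ⟨n, hn'⟩ : ∃ n, n = (inner D x e).ncard := ⟨_, rfl⟩
  obtain ⟨L, hL'⟩ : ∃ L, L = (far D x).ncard := ⟨_, rfl⟩
  simp only [hk, hl, ← hn', ← hL'] at hn hnk hL hcount hev hle ⊢
  rcases hev with ⟨p, q, hpq, hp⟩ | hconf
  · by_contra hne
    refine m24_check (d := p) (q := q) (by omega) ⟨by omega, by omega, ⟨L, ?_⟩, by omega⟩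
    rw [show 3512 + q - p = n by omega, show n * L = 31671 * 28160 by omega]
  · exfalso
    rcases le_or_gt n 3510 with h | h
    · nlinarith
    · omega

/-- The common neighbours generate a group transitive on them. -/
theorem common_transitive {u w : G} (hu : u ∈ common D x e) (hw : w ∈ common D x e) :
    ∃ g ∈ Subgroup.closure (common D x e), g * u * g⁻¹ = w := by
  have hD := hF.toTrans
  have step : ∀ u ∈ common D x e, ∀ w ∈ common D x e, ¬ Commute u w →
      ∃ g ∈ Subgroup.closure (common D x e), g * u * g⁻¹ = w := by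
    intro u hu w hw hn
    refine ⟨u * w, mul_mem (Subgroup.subset_closure hu) (Subgroup.subset_closure hw), ?_⟩
    have hb := braid hD hu.1.1 hw.1.1 hn
    simp only [cj_def] at hb
    rw [mul_inv_rev, inv_eq hD hu.1.1, inv_eq hD hw.1.1]
    calc u * w * u * (w * u) = (u * w * u) * (w * u) := by simp only [mul_assoc]
      _ = (w * u * w) * (w * u) := by rw [hb]
      _ = w * (u * (w * w) * u) := by simp only [mul_assoc]
      _ = w := by rw [mul_self hD hw.1.1, mul_one, mul_self hD hu.1.1, mul_one]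
  by_cases h : Commute u w
  · obtain ⟨z, hz, hzu, hzw⟩ : ∃ z ∈ common D x e, ¬ Commute u z ∧ ¬ Commute z w := by
      by_contra hcon
      push Not at hcon
      have hsub : common D x e ⊆
          {u, w} ∪ (common D x e ∩ perp D u) ∪ (common D x e ∩ perp D w) := by
        intro z hz
        by_cases h1 : Commute u z
        · rcases eq_or_ne z u with e' | e'
          · exact Or.inl (Or.inl (Or.inl e'))
          · exact Or.inl (Or.inr ⟨hz, hz.1.1, e', h1⟩)
        · rcases eq_or_ne z w with e' | e'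
          · exact Or.inl (Or.inl (Or.inr e'))
          · exact Or.inr ⟨hz, hz.1.1, e', (hcon z hz h1).symm⟩
      have h1 := (Set.ncard_le_ncard hsub (Set.toFinite _)).trans
        ((Set.ncard_union_le _ _).trans (Nat.add_le_add_right (Set.ncard_union_le _ _) _))
      rw [common_valency hF hloc hx he hxe hu, common_valency hF hloc hx he hxe hw,
        common_card hF hloc hx he hxe] at h1
      have h2 : ({u, w} : Set G).ncard ≤ 2 := (Set.ncard_insert_le _ _).trans (by rw [Set.ncard_singleton])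
      omega
    obtain ⟨g, hg, hgu⟩ := step u hu z hz hzu
    obtain ⟨k, hk, hkz⟩ := step z hz w hw hzw
    exact ⟨k * g, mul_mem hk hg, by rw [← hkz, ← hgu]; group⟩
  · exact step u hu w hw h

/-- The group of the common neighbours has order divisible by the order of `Ω₈⁺(3)` up to a factor of `S₃`. -/
theorem common_order : 2 ^ 13 * 3 ^ 13 * 5 ^ 2 * 7 * 13 ∣ Nat.card ↥(Subgroup.closure (common D x e)) := by
  have hD := hF.toTrans
  obtain ⟨y, hy⟩ := Set.nonempty_of_ncard_ne_zero (s := common D x e) (by rw [common_card hF hloc hx he hxe]; omega)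
  have hfix : ∀ g ∈ Subgroup.closure (common D x e), Commute g x ∧ Commute g e := by
    intro g hg
    have h : Subgroup.closure (common D x e) ≤ Subgroup.centralizer ({x} : Set G) ⊓ Subgroup.centralizer ({e} : Set G) :=
      (Subgroup.closure_le _).2 fun u hu => ⟨Subgroup.mem_centralizer_singleton_iff.2 hu.1.2.2.eq.symm,
        Subgroup.mem_centralizer_singleton_iff.2 hu.2.eq.symm⟩
    exact ⟨Subgroup.mem_centralizer_singleton_iff.1 (h hg).1, Subgroup.mem_centralizer_singleton_iff.1 (h hg).2⟩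
  have horb := card_conj_orbit (K := Subgroup.closure (common D x e)) hy (fun g hg u hu => by
    obtain ⟨h1, h2⟩ := hfix g hg
    have hgx : g * x * g⁻¹ = x := by rw [h1.eq, mul_inv_cancel_right]
    have hge : g * e * g⁻¹ = e := by rw [h2.eq, mul_inv_cancel_right]
    refine ⟨⟨hD.conj g u hu.1.1, fun h => hu.1.2.1 ((MulAut.conj g).injective
      (show g * u * g⁻¹ = g * x * g⁻¹ by rw [h, hgx])), ?_⟩, ?_⟩
    · have := (Commute.conj_iff g).2 hu.1.2.2; rwa [hgx] at this
    · have := (Commute.conj_iff g).2 hu.2; rwa [hge] at this)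
    (fun u hu => common_transitive hF hloc hx he hxe hy hu)
  rw [Nat.card_coe_set_eq, common_card hF hloc hx he hxe] at horb
  rw [horb]
  refine (show 2 ^ 13 * 3 ^ 13 * 5 ^ 2 * 7 * 13 ∣ 3240 * (2 * (2 ^ 9 * 3 ^ 9 * 5 * 7 * 13)) by norm_num).trans
    (Nat.mul_dvd_mul_left _ ?_)
  obtain ⟨T, hT⟩ : ∃ T, T = Subgroup.closure (common D x e) ⊓ Subgroup.centralizer ({y} : Set G) := ⟨_, rfl⟩
  rw [← hT]
  -- the members next to `y`
  obtain ⟨A, hA⟩ : ∃ A, A = common D x e ∩ perp D y := ⟨_, rfl⟩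
  have hyT : y ∈ T := hT ▸ ⟨Subgroup.subset_closure hy, Subgroup.mem_centralizer_singleton_iff.2 rfl⟩
  have hAT : Subgroup.closure A ≤ T := by
    rw [hT, hA, Subgroup.closure_le]
    exact fun u hu => ⟨Subgroup.subset_closure hu.1, Subgroup.mem_centralizer_singleton_iff.2 hu.2.2.2.eq.symm⟩
  have hAP : A ⊆ perp D y := hA ▸ fun u hu => hu.2
  have hxy : x ∈ perp D y := ⟨hx, hy.1.2.1.symm, hy.1.2.2.symm⟩
  have hey : e ∈ perp D y := ⟨he, fun h => hxe (h ▸ hy.1.2.2), hy.2.symm⟩
  have hord := (hloc y hy.1.1).order _ (bar_mem hxy) _ (bar_mem hey) fun h =>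
    hxe ((bar_commute hD (fun _ h => h.1) hxy hey).1 h)
  let ψ : ↥(Subgroup.closure A) →* Loc G D y :=
    (QuotientGroup.mk' _).comp (Subgroup.inclusion (Subgroup.closure_mono hAP))
  have hrange : Subgroup.closure (common (locSet G D y) (bar hxy) (bar hey)) ≤ ψ.range := by
    rw [Subgroup.closure_le]
    intro w hw
    obtain ⟨u, hu, rfl⟩ := exists_bar hw.1.1
    have hux : Commute x u := (bar_commute hD (fun _ h => h.1) hxy hu).1 hw.1.2.2
    have hne : u ≠ x := fun e' => hw.1.2.1 (by subst e'; rfl)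
    have hue : Commute e u := (bar_commute hD (fun _ h => h.1) hey hu).1 hw.2
    exact ⟨⟨u, Subgroup.subset_closure (hA ▸ ⟨⟨⟨hu.1, hne, hux⟩, hue⟩, hu⟩)⟩, rfl⟩
  have hdvd : 2 ^ 9 * 3 ^ 9 * 5 * 7 * 13 ∣ Nat.card ↥ψ.range := hord.trans (Subgroup.card_dvd_of_le hrange)
  have hker : Nat.card ↥ψ.ker * Nat.card ↥ψ.range = Nat.card ↥(Subgroup.closure A) := by
    rw [← Subgroup.index_ker ψ, Subgroup.card_mul_index]
  have hy2 : orderOf y = 2 := hD.set.1 y hy.1.1
  by_cases hyA : y ∈ Subgroup.closure A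
  · have hker2 : 2 ∣ Nat.card ↥ψ.ker := by
      have hmem : (⟨y, hyA⟩ : ↥(Subgroup.closure A)) ∈ ψ.ker := by
        rw [MonoidHom.mem_ker]
        refine (QuotientGroup.eq_one_iff _).2 (Subgroup.mem_center_iff.2 fun k => Subtype.ext ?_)
        exact Subgroup.mem_centralizer_singleton_iff.1
          ((Subgroup.closure_le _).2 (fun v hv => Subgroup.mem_centralizer_singleton_iff.2 hv.2.2.eq.symm) k.2)
      have h := orderOf_dvd_natCard (⟨⟨y, hyA⟩, hmem⟩ : ↥ψ.ker)
      rw [← Subgroup.orderOf_coe, Subgroup.orderOf_mk] at h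
      rwa [hy2] at h
    exact ((Nat.mul_dvd_mul hker2 hdvd).trans hker.dvd).trans (Subgroup.card_dvd_of_le hAT)
  · have hcomm : ∀ (a : ↥(Subgroup.closure A)) (b : ↥(Subgroup.zpowers y)), Commute (a : G) b := by
      intro a b
      obtain ⟨k, hk⟩ := b.2
      rw [← hk]
      refine Commute.zpow_right ?_ k
      have := ((hT ▸ hAT a.2 : (a : G) ∈ Subgroup.closure (common D x e) ⊓ Subgroup.centralizer ({y} : Set G))).2
      exact Subgroup.mem_centralizer_singleton_iff.1 this
    let μ : ↥(Subgroup.closure A) × ↥(Subgroup.zpowers y) →* G :=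
      MonoidHom.noncommCoprod (Subgroup.closure A).subtype (Subgroup.zpowers y).subtype hcomm
    have hμ : Function.Injective μ := by
      refine MonoidHom.ker_eq_bot_iff μ |>.1 (eq_bot_iff.2 fun p hp => ?_)
      obtain ⟨⟨a, ha⟩, ⟨b, hb⟩⟩ := p
      have hab : a * b = 1 := hp
      have hbA : b ∈ Subgroup.closure A := by
        rw [eq_inv_of_mul_eq_one_right hab]; exact inv_mem ha
      obtain ⟨k, rfl⟩ := hb
      have hb1 : y ^ k = 1 := by
        rcases Int.even_or_odd k with ⟨m, rfl⟩ | ⟨m, rfl⟩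
        · rw [← two_mul, zpow_mul, show y ^ (2 : ℤ) = 1 by rw [zpow_two, mul_self hD hy.1.1], one_zpow]
        · exfalso
          apply hyA
          simp only [zpow_add, zpow_one, zpow_mul, show y ^ (2 : ℤ) = 1 by rw [zpow_two, mul_self hD hy.1.1],
            one_zpow, one_mul] at hbA
          exact hbA
      simp only [hb1, mul_one] at hab
      exact Prod.ext (Subtype.ext hab) (Subtype.ext hb1)
    have hμT : μ.range ≤ T := by
      rintro _ ⟨⟨a, b⟩, rfl⟩
      exact mul_mem (hAT a.2) ((Subgroup.zpowers_le.2 hyT) b.2)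
    refine dvd_trans ?_ (Subgroup.card_dvd_of_le hμT)
    rw [← Nat.card_congr (MonoidHom.ofInjective hμ).toEquiv, Nat.card_prod, Nat.card_zpowers, hy2, mul_comm 2]
    exact Nat.mul_dvd_mul ((hdvd.trans (Dvd.intro_left _ hker))) dvd_rfl

end

/-- Neighbourhoods of type M(23) give type M(24). -/
theorem m24Step : MTwentyFourStep.{u} := by
  intro G _ _ D hF x hx hc h23
  have hloc : ∀ a ∈ D, Loc23 (locSet G D a) := fun a ha => loc23 hF hx hc h23 ha
  have hE := isFischer_loc hF hx hc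
  obtain ⟨c, hcD, hxc⟩ := exists_not_commute hF hx
  have hsep := fun a ha b hb h => eq_of_commute_iff hF (a := a) (b := b) ha hb h
  obtain ⟨b, K⟩ := m23_data hE.toTrans (primitive_of_isFischer hE) h23 fun c hc Q hQ =>
    Dvd.dvd.trans (by norm_num) (ReflSeven.quot_dvd Q hQ hc)
  have K₂ : M24Data D x := ⟨hF, primitive_of_isFischer hF, center_eq_bot_of_isFischer hF, hsep, hx, hE.toTrans,
    primitive_of_isFischer hE, hE, h23, ⟨c, hcD, hxc, common_order hF hloc hx hcD hxc⟩, K.trace.lift hF hsep hx⟩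
  haveI := Cfsg.Lib.BigPerm.Fi24.finite_Fi24
  obtain ⟨hcls, hprim, htype⟩ := M24Exist.fi24_type
  obtain ⟨d₁, K₁⟩ := m24_data (trans_of_class hcls) hprim htype
  obtain ⟨φ, P⟩ := M24.exists_twin K₁ K₂
  obtain ⟨χ₁, hχ₁, -⟩ := K₁.exists_global
  obtain ⟨χ₂, hχ₂, -⟩ := K₂.exists_global
  obtain ⟨a, t, S, hsign⟩ := M24.exists_seed K₁ K₂ P hχ₁ hχ₂
  obtain ⟨ψ, E⟩ := M24.exists_ext K₁ K₂ P S hχ₁ hχ₂ hsign
  obtain ⟨f, hf⟩ := M24.exists_equiv_of_ext K₁ K₂ P S E
  rw [← hf]
  exact isOfTypeM24_map f htype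

end Cfsg.Lib.Fischer.Thm
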