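import Cfsg.Agent.Lib.Fischer.Thm.List
import Cfsg.Agent.Lib.Fischer.Polar.Symp
import Cfsg.Agent.Lib.Linear.OrthTwoTransposition

/-!
# A class that is the set of non-singular vectors of a quadratic space over two elements
-/

set_option autoImplicit false
set_option linter.unusedSectionVars false

namespace Cfsg.Lib.Fischer.Thm

open Module Cfsg Cfsg.Lib.Fischer Cfsg.Lib.Fischer.Polar Cfsg.Lib.Linear.Orth
open scoped Matrix

variable {G : Type*} [Group G] [Finite G] {D : Set G}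
  {ι : Type} [Fintype ι] [DecidableEq ι] {Q : (ι → ZMod 2) → ZMod 2}
  {B : LinearMap.BilinForm (ZMod 2) (ι → ZMod 2)}

/-- The group is the isometry group, the members are the transvections. -/
theorem iso_of_points (hF : IsFischer D) (C : Space Q B) (h5 : 5 ≤ Fintype.card ι)
    (ψ : G → ι → ZMod 2) (hinj : Set.InjOn ψ D) (hQ : ∀ d ∈ D, Q (ψ d) = 1)
    (hsurj : ∀ v, Q v = 1 → ∃ d ∈ D, ψ d = v) (hadd : ∀ a ∈ D, ∀ b ∈ D, ¬ Commute a b → ψ (cj a b) = ψ a + ψ b)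
    (hB : ∀ a ∈ D, ∀ b ∈ D, B (ψ a) (ψ b) = ind a b)
    (hspan : ∀ A A' : GL ι (ZMod 2), (∀ d ∈ D, A.val *ᵥ ψ d = A'.val *ᵥ ψ d) → A = A') :
    ∃ e : G ≃* ↥(isometryGroup (ZMod 2) Q),
      e '' D = {g : ↥(isometryGroup (ZMod 2) Q) |
        (((g : GL ι (ZMod 2)) : Matrix ι ι (ZMod 2)) - 1).rank = 1} := by
  have hD := hF.toTrans
  have h1 : ∀ d ∈ D, Q (ψ d) ≠ 0 := fun d hd => by rw [hQ d hd]; exact one_ne_zero
  let Γ : Subgroup (G × GL ι (ZMod 2)) :=
    { carrier := {p | ∀ d ∈ D, ψ (p.1 * d * p.1⁻¹) = p.2.val *ᵥ ψ d}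
      one_mem' := fun d _ => by simp
      mul_mem' := fun {p q} hp hq d hd => by
        rw [show (p * q).1 * d * ((p * q).1)⁻¹ = p.1 * (q.1 * d * q.1⁻¹) * p.1⁻¹ by simp [mul_assoc],
          hp _ (hD.conj q.1 d hd), hq d hd, Prod.snd_mul, mul_act]
      inv_mem' := fun {p} hp d hd => by
        have := hp _ (hD.conj p.1⁻¹ d hd)
        rw [show p.1 * (p.1⁻¹ * d * p.1⁻¹⁻¹) * p.1⁻¹ = d by group] at this
        rw [Prod.fst_inv, Prod.snd_inv, this, inv_act] }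
  have hmem : ∀ s ∈ D, (s, rGL Q (ψ s)) ∈ Γ := fun s hs d hd => by
    show ψ (s * d * s⁻¹) = _
    rw [← cj_conj hD hs, rGL2_act C (h1 s hs), hB s hs d hd]
    by_cases h : Commute s d
    · rw [cj_of_commute hD hs h, ind_of_commute h, zero_smul, add_zero]
    · rw [hadd s hs d hd h, ind_of_not h, one_smul, add_comm]
  have hex : ∀ g : G, ∃ A : GL ι (ZMod 2), A ∈ isometryGroup (ZMod 2) Q ∧ (g, A) ∈ Γ := by
    intro g
    have hg : g ∈ Subgroup.closure D := hD.gen ▸ Subgroup.mem_top g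
    induction hg using Subgroup.closure_induction with
    | mem s hs => exact ⟨_, rGL_mem C (h1 s hs), hmem s hs⟩
    | one => exact ⟨1, one_mem _, Γ.one_mem⟩
    | mul u v _ _ hu hv =>
      obtain ⟨A, hA, hu⟩ := hu
      obtain ⟨A', hA', hv⟩ := hv
      exact ⟨A * A', mul_mem hA hA', Γ.mul_mem hu hv⟩
    | inv u _ hu =>
      obtain ⟨A, hA, hu⟩ := hu
      exact ⟨A⁻¹, inv_mem hA, Γ.inv_mem hu⟩
  choose A hAi hA using hex
  have huniq : ∀ g A', (g, A') ∈ Γ → A g = A' := fun g A' h =>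
    hspan _ _ fun d hd => (hA g d hd).symm.trans (h d hd)
  let θ : G →* ↥(isometryGroup (ZMod 2) Q) :=
    { toFun := fun g => ⟨A g, hAi g⟩
      map_one' := Subtype.ext (huniq 1 1 Γ.one_mem)
      map_mul' := fun g h => Subtype.ext (huniq _ _ (Γ.mul_mem (hA g) (hA h))) }
  have hθ : ∀ s ∈ D, (θ s : GL ι (ZMod 2)) = rGL Q (ψ s) := fun s hs => huniq s _ (hmem s hs)
  have hinj' : Function.Injective θ := by
    rw [injective_iff_map_eq_one]
    intro g hg
    refine center_trivial hF fun d hd => ?_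
    have h := hA g d hd
    rw [show A g = 1 from congrArg Subtype.val hg] at h
    refine mul_inv_eq_iff_eq_mul.1 (hinj (hD.conj g d hd) hd ?_)
    simpa using h
  have hsurj' : Function.Surjective θ := by
    intro g
    have key : Subgroup.closure {g | ∃ v, Q v ≠ 0 ∧ g = rGL Q v} ≤
        θ.range.map (isometryGroup (ZMod 2) Q).subtype := by
      rw [Subgroup.closure_le]
      rintro _ ⟨v, hv, rfl⟩
      obtain ⟨d, hd, rfl⟩ := hsurj v ((zmod2_cases' _).resolve_left hv)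
      exact ⟨θ d, ⟨d, rfl⟩, hθ d hd⟩
    obtain ⟨y, ⟨d, rfl⟩, he⟩ := key (iso_le_closure_rGL C h5 g.2)
    exact ⟨d, Subtype.ext he⟩
  refine ⟨MulEquiv.ofBijective θ ⟨hinj', hsurj'⟩, Set.ext fun g => ?_⟩
  rw [Set.mem_ofPred, rank_one_iff' C g.1 g.2]
  constructor
  · rintro ⟨d, hd, rfl⟩
    exact ⟨ψ d, h1 d hd, hθ d hd⟩
  · rintro ⟨v, hv, he⟩
    obtain ⟨d, hd, rfl⟩ := hsurj v ((zmod2_cases' _).resolve_left hv)
    exact ⟨d, hd, Subtype.ext ((hθ d hd).trans he.symm)⟩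

end Cfsg.Lib.Fischer.Thm
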