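import Cfsg.Agent.Lib.Fischer.Thm.Steps
import Cfsg.Agent.Lib.Fischer.Thm.Points
import Cfsg.Agent.Lib.Fischer.Component
import Cfsg.Agent.Lib.Fischer.RankThree

/-!
# No neighbourhood is orthogonal over two elements of dimension at least eight

On the eight points of an affine space of pairwise commuting neighbours of `x`, a member away from `x`
commutes with at most one: it commutes with an even number of the four points of a plane as soon as
with one of them.  But two commuting common neighbours of a pair that does not commute exist.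
-/

set_option autoImplicit false
set_option linter.unusedSectionVars false

namespace Cfsg.Lib.Fischer.Thm.OrthTwo

open Module Cfsg Cfsg.Lib.Fischer Cfsg.Lib.Fischer.Polar Cfsg.Lib.Fischer.Relations Cfsg.Lib.Linear.Orth
open scoped Matrix

universe u

variable {ι : Type} [Fintype ι] [DecidableEq ι] {Q : (ι → ZMod 2) → ZMod 2}
  {B : LinearMap.BilinForm (ZMod 2) (ι → ZMod 2)}

theorem add_self' (v : ι → ZMod 2) : v + v = 0 := funext fun i => CharTwo.add_self_eq_zero (v i)

theorem self0 (C : Space Q B) (v : ι → ZMod 2) : B v v = 0 := by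
  rw [C.self, show (2 : ZMod 2) = 0 from rfl, zero_mul]

/-- A transvection determines its vector. -/
theorem rGL_inj (C : Space Q B) {v w : ι → ZMod 2} (hv : Q v = 1) (hw : Q w = 1)
    (h : rGL Q v = rGL Q w) : v = w := by
  have hv0 : v ≠ 0 := fun e => by rw [e, C.zero] at hv; exact zero_ne_one hv
  obtain ⟨y, hy⟩ := C.exists_pair hv0
  have e := rGL2_act C (v := v) (by rw [hv]; exact one_ne_zero) y
  rw [h, rGL2_act C (by rw [hw]; exact one_ne_zero), hy, one_smul] at e
  rcases zmod2_cases' (B w y) with h0 | h0 <;> rw [h0] at e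
  · rw [zero_smul] at e; exact absurd (add_left_cancel e).symm hv0
  · rw [one_smul] at e; exact (add_left_cancel e).symm

/-- Transvections commute exactly when their vectors are orthogonal. -/
theorem rGL_commute (C : Space Q B) {v w : ι → ZMod 2} (hv : Q v = 1) (hw : Q w = 1) :
    Commute (rGL Q v) (rGL Q w) ↔ B v w = 0 := by
  have hv' : Q v ≠ 0 := by rw [hv]; exact one_ne_zero
  have hw' : Q w ≠ 0 := by rw [hw]; exact one_ne_zero
  have e : rGL Q v * rGL Q w * (rGL Q v)⁻¹ = rGL Q (w + B v w • v) := by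
    rw [rGL_conj C hw' (rGL_mem C hv'), rGL2_act C hv']
  constructor
  · intro h
    rw [h.eq, mul_inv_cancel_right] at e
    rcases zmod2_cases' (B v w) with h0 | h0
    · exact h0
    · rw [h0, one_smul] at e
      have hq : Q (w + v) = 1 := by rw [C.add, hv, hw, C.symm w v, h0]; decide
      have := rGL_inj C hw hq e
      rw [left_eq_add] at this
      rw [this, C.zero] at hv
      exact absurd hv zero_ne_one
  · intro h
    rw [h, zero_smul, add_zero] at e
    exact mul_inv_eq_iff_eq_mul.1 e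

/-- A vector orthogonal to all non-singular vectors orthogonal to a non-singular one. -/
theorem detect (C : Space Q B) {a z : ι → ZMod 2} (ha : Q a = 1) (haz : B a z = 0)
    (h : ∀ u, Q u = 1 → B a u = 0 → B u z = 0) : z = 0 ∨ z = a := by
  by_contra hcon
  push Not at hcon
  obtain ⟨u, hau, hzu⟩ : ∃ u, B a u = 0 ∧ B z u = 1 := by
    obtain ⟨u0, h0⟩ := C.exists_pair hcon.1
    have hne : z + a ≠ 0 := fun e => hcon.2 (add_right_cancel (e.trans (add_self' a).symm))
    obtain ⟨u1, h1⟩ := C.exists_pair hne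
    rw [map_add, LinearMap.add_apply] at h1
    rcases zmod2_cases' (B a u0) with e0 | e0
    · exact ⟨u0, e0, h0⟩
    rcases zmod2_cases' (B a u1) with e1 | e1
    · exact ⟨u1, e1, by rwa [e1, add_zero] at h1⟩
    rw [e1] at h1
    refine ⟨u0 + u1, by rw [map_add, e0, e1]; decide, ?_⟩
    rw [map_add, h0, show B z u1 = 0 from by simpa using h1, add_zero]
  rcases zmod2_cases' (Q u) with hu | hu
  · have h' := h (u + a) (by rw [C.add, hu, ha, C.symm u a, hau]; decide)
      (by rw [map_add, hau, self0 C, add_zero])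
    rw [map_add, LinearMap.add_apply, C.symm u z, hzu, haz, add_zero] at h'
    exact one_ne_zero h'
  · have h' := h u hu hau
    rw [C.symm u z, hzu] at h'
    exact one_ne_zero h'

/-- A vector orthogonal to few vectors outside their span. -/
theorem exists_orth (B : LinearMap.BilinForm (ZMod 2) (ι → ZMod 2)) {k : ℕ} (v : Fin k → ι → ZMod 2)
    (hk : 2 * k < Fintype.card ι) :
    ∃ u, (∀ i, B (v i) u = 0) ∧ u ∉ Submodule.span (ZMod 2) (Set.range v) := by
  let T : (ι → ZMod 2) →ₗ[ZMod 2] (Fin k → ZMod 2) := LinearMap.pi fun i => B (v i)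
  have h1 := T.finrank_range_add_finrank_ker
  have h2 := Submodule.finrank_le (LinearMap.range T)
  rw [Module.finrank_fintype_fun_eq_card] at h1
  rw [Module.finrank_fintype_fun_eq_card, Fintype.card_fin] at h2
  have h3 : finrank (ZMod 2) (Submodule.span (ZMod 2) (Set.range v)) ≤ k := by
    simpa [Set.finrank] using finrank_range_le_card (R := ZMod 2) v
  obtain ⟨u, hu, hu'⟩ := SetLike.not_le_iff_exists.1
    (fun hle : LinearMap.ker T ≤ Submodule.span (ZMod 2) (Set.range v) => by
      have := Submodule.finrank_mono hle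
      omega)
  exact ⟨u, fun i => congrFun (LinearMap.mem_ker.1 hu) i, hu'⟩

/-- A singular vector orthogonal to few vectors, one of them non-singular, outside their span. -/
theorem exists_singular (C : Space Q B) {k : ℕ} (v : Fin k → ι → ZMod 2) (i₀ : Fin k)
    (hv : Q (v i₀) = 1) (horth : ∀ i, B (v i) (v i₀) = 0) (hk : 2 * k < Fintype.card ι) :
    ∃ u, Q u = 0 ∧ (∀ i, B (v i) u = 0) ∧ u ∉ Submodule.span (ZMod 2) (Set.range v) := by
  obtain ⟨u, hu, hu'⟩ := exists_orth B v hk
  rcases zmod2_cases' (Q u) with h0 | h0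
  · exact ⟨u, h0, hu, hu'⟩
  refine ⟨u + v i₀, by rw [C.add, h0, hv, C.symm u, hu]; decide,
    fun i => by rw [map_add, hu, horth, add_zero], fun h => hu' ?_⟩
  have := Submodule.add_mem _ h (Submodule.subset_span (R := ZMod 2) ⟨i₀, rfl⟩)
  rwa [add_assoc, add_self', add_zero] at this

/-- Non-singular vectors orthogonal to a hyperbolic pair exist. -/
theorem exists_one_perp (C : Space Q B) {a b : ι → ZMod 2} (hab : B a b = 1) (h5 : 5 ≤ Fintype.card ι) :
    ∃ r, Q r = 1 ∧ B a r = 0 ∧ B b r = 0 := by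
  obtain ⟨u, hu, hu'⟩ := exists_orth B ![a, b] (by omega)
  have hau : B a u = 0 := hu 0
  have hbu : B b u = 0 := hu 1
  rcases zmod2_cases' (Q u) with h0 | h0
  · obtain ⟨v, hv⟩ := C.exists_pair (v := u) (fun e => hu' (e ▸ Submodule.zero_mem _))
    set v' := v + B b v • a + B a v • b with hv'
    have e1 : B a v' = 0 := by
      simp only [hv', map_add, map_smul, smul_eq_mul, self0 C, hab, mul_zero, add_zero, mul_one,
        CharTwo.add_self_eq_zero]
    have e2 : B b v' = 0 := by
      simp only [hv', map_add, map_smul, smul_eq_mul, self0 C, C.symm b a, hab, mul_zero,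
        mul_one, CharTwo.add_self_eq_zero]
    have e3 : B u v' = 1 := by
      simp only [hv', map_add, map_smul, smul_eq_mul, C.symm u a, C.symm u b, hau, hbu, hv, mul_zero,
        add_zero]
    rcases zmod2_cases' (Q v') with h1 | h1
    · exact ⟨u + v', by rw [C.add, h0, h1, e3]; decide, by rw [map_add, hau, e1, add_zero],
        by rw [map_add, hbu, e2, add_zero]⟩
    · exact ⟨v', h1, e1, e2⟩
  · exact ⟨u, h0, hau, hbu⟩

/-- On the eight points of an affine space no two zeros are allowed by the parity rule. -/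
theorem no_func (f : ZMod 2 × ZMod 2 × ZMod 2 → ZMod 2)
    (hf : ∀ s p q r, s + p + q + r = 0 → s ≠ p → s ≠ q → s ≠ r → f s = 0 → f p + f q + f r = 1)
    (h0 : f (0, 0, 0) = 0) (h1 : f (1, 0, 0) = 0) : False := by
  have main : ∀ p q : ZMod 2 × ZMod 2 × ZMod 2, f p = 0 → f q = 0 → p.2 = (1, 0) → q.2 = (0, 1) → False := by
    rintro ⟨i, p⟩ ⟨j, q⟩ hp hq rfl rfl
    have e0 : ∀ i j : ZMod 2,
        ((0, 0, 0) + (i, 1, 0) + (j, 0, 1) + (i + j, 1, 1) : ZMod 2 × ZMod 2 × ZMod 2) = 0 ∧
        ((1, 0, 0) + (i, 1, 0) + (j, 0, 1) + (1 + i + j, 1, 1) : ZMod 2 × ZMod 2 × ZMod 2) = 0 ∧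
        ((0, 0, 0) + (1, 0, 0) + (i + j, 1, 1) + (1 + i + j, 1, 1) : ZMod 2 × ZMod 2 × ZMod 2) = 0 := by
      decide
    have k0 := hf (0, 0, 0) (i, 1, 0) (j, 0, 1) (i + j, 1, 1) (e0 i j).1 (by simp) (by simp)
      (by simp) h0
    have k1 := hf (1, 0, 0) (i, 1, 0) (j, 0, 1) (1 + i + j, 1, 1) (e0 i j).2.1 (by simp) (by simp)
      (by simp) h1
    have k2 := hf (0, 0, 0) (1, 0, 0) (i + j, 1, 1) (1 + i + j, 1, 1) (e0 i j).2.2 (by simp)
      (by simp) (by simp) h0
    rw [hp, hq, zero_add, zero_add] at k0 k1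
    rw [h1, k0, k1] at k2
    exact absurd k2 (by decide)
  have k := hf (0, 0, 0) (1, 0, 0) (0, 1, 0) (1, 1, 0) (by decide) (by decide) (by decide) (by decide) h0
  have k' := hf (0, 0, 0) (1, 0, 0) (0, 0, 1) (1, 0, 1) (by decide) (by decide) (by decide) (by decide) h0
  rw [h1, zero_add] at k k'
  obtain ⟨p, hp, hp'⟩ : ∃ p, f p = 0 ∧ p.2 = (1, 0) := by
    rcases zmod2_cases' (f (0, 1, 0)) with e | e
    · exact ⟨_, e, rfl⟩
    · exact ⟨(1, 1, 0), by simpa [e] using k, rfl⟩
  obtain ⟨q, hq, hq'⟩ : ∃ q, f q = 0 ∧ q.2 = (0, 1) := by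
    rcases zmod2_cases' (f (0, 0, 1)) with e | e
    · exact ⟨_, e, rfl⟩
    · exact ⟨(1, 0, 1), by simpa [e] using k', rfl⟩
  exact main p q hp hq hp' hq'

variable {G : Type u} [Group G] [Finite G] {D : Set G} {x : G} {ψ : G → ι → ZMod 2}

/-- The neighbours of `x` as the non-singular vectors. -/
structure Chart (Q : (ι → ZMod 2) → ZMod 2) (B : LinearMap.BilinForm (ZMod 2) (ι → ZMod 2)) (D : Set G)
    (x : G) (ψ : G → ι → ZMod 2) : Prop where
  inj : Set.InjOn ψ (perp D x)
  one : ∀ a ∈ perp D x, Q (ψ a) = 1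
  surj : ∀ v, Q v = 1 → ∃ a ∈ perp D x, ψ a = v
  ind : ∀ a ∈ perp D x, ∀ b ∈ perp D x, ind a b = B (ψ a) (ψ b)

/-- An orthogonal neighbourhood gives a chart. -/
theorem exists_chart (hF : IsFischer D) (hx : x ∈ D) (C : Space Q B)
    (e : Loc G D x ≃* ↥(isometryGroup (ZMod 2) Q))
    (he : e '' locSet G D x = {g : ↥(isometryGroup (ZMod 2) Q) |
      (((g : GL ι (ZMod 2)) : Matrix ι ι (ZMod 2)) - 1).rank = 1}) :
    ∃ ψ : G → ι → ZMod 2, Chart Q B D x ψ := by
  classical
  have hD := hF.toTrans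
  have hS : perp D x ⊆ D := fun _ h => h.1
  have hnc : ∀ a ∈ perp D x, ∃ b ∈ perp D x, ¬ Commute a b := fun a ha =>
    exists_perp_noncommute hD (fun a ha b hb h => eq_of_commute_iff hF (a := a) (b := b) ha hb h) hx ha
  have hex : ∀ y, ∃ v : ι → ZMod 2, ∀ hy : y ∈ perp D x, Q v = 1 ∧
      ((e (bar hy) : ↥(isometryGroup (ZMod 2) Q)) : GL ι (ZMod 2)) = rGL Q v := fun y => by
    by_cases hy : y ∈ perp D x
    · have hm : e (bar hy) ∈ e '' locSet G D x := ⟨_, bar_mem hy, rfl⟩
      rw [he] at hm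
      obtain ⟨v, hv, hv'⟩ := (rank_one_iff' C _ (e (bar hy)).2).1 hm
      exact ⟨v, fun _ => ⟨(zmod2_cases' _).resolve_left hv, hv'⟩⟩
    · exact ⟨0, fun h => absurd h hy⟩
  choose ψ hψ using hex
  refine ⟨ψ, fun a ha b hb hab => bar_inj hD hS hnc ha hb (e.injective (Subtype.ext ?_)),
    fun a ha => (hψ a ha).1, fun v hv => ?_, fun a ha b hb => ?_⟩
  · rw [(hψ a ha).2, (hψ b hb).2, hab]
  · have hv' : Q v ≠ 0 := by rw [hv]; exact one_ne_zero
    have hm : (⟨rGL Q v, rGL_mem C hv'⟩ : ↥(isometryGroup (ZMod 2) Q)) ∈ e '' locSet G D x := by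
      rw [he, Set.mem_ofPred]
      exact (rank_one_iff' C _ (rGL_mem C hv')).2 ⟨v, hv', rfl⟩
    obtain ⟨z, hz, hzv⟩ := hm
    obtain ⟨y, hy, rfl⟩ := exists_bar hz
    exact ⟨y, hy, rGL_inj C (hψ y hy).1 hv ((hψ y hy).2.symm.trans (congrArg Subtype.val hzv))⟩
  · have h : Commute a b ↔ B (ψ a) (ψ b) = 0 := by
      rw [← rGL_commute C (hψ a ha).1 (hψ b hb).1, ← (hψ a ha).2, ← (hψ b hb).2, ← bar_commute hD hS ha hb]
      exact ⟨fun h => (h.map e.toMonoidHom).map (Subgroup.subtype _),
        fun h => e.injective (Subtype.ext (by simpa using h.eq))⟩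
    by_cases hab : Commute a b
    · rw [ind_of_commute hab, h.1 hab]
    · rw [ind_of_not hab, (zmod2_cases' (B (ψ a) (ψ b))).resolve_left fun h0 => hab (h.2 h0)]

/-- A chart moved to another member. -/
theorem Chart.move (hF : IsFischer D) (H : Chart Q B D x ψ) {g y : G} (hg : g * y * g⁻¹ = x) :
    Chart Q B D y fun z => ψ (g * z * g⁻¹) := by
  have hm : ∀ z, g * z * g⁻¹ ∈ perp D x ↔ z ∈ perp D y := fun z => by
    rw [← hg, mem_perp_conj hF.toTrans, show g⁻¹ * (g * z * g⁻¹) * g = z by group]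
  refine ⟨fun a ha b hb h => ?_, fun a ha => H.one _ ((hm a).2 ha), fun v hv => ?_, fun a ha b hb => ?_⟩
  · exact mul_left_cancel (mul_right_cancel (H.inj ((hm a).2 ha) ((hm b).2 hb) h))
  · obtain ⟨a, ha, rfl⟩ := H.surj v hv
    refine ⟨g⁻¹ * a * g, (hm _).1 ?_, ?_⟩ <;> rw [show g * (g⁻¹ * a * g) * g⁻¹ = a by group]
    exact ha
  · rw [← H.ind _ ((hm a).2 ha) _ ((hm b).2 hb), ind_conj]

variable (hF : IsFischer D) (C : Space Q B) (hx : x ∈ D) (H : Chart Q B D x ψ)
include hF C hx H

/-- A member away from `x` meets an even number of four coplanar points, if it meets one. -/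
theorem parity {d y p q r : G} (hd : d ∈ D) (hxd : ¬ Commute x d) (hy : y ∈ perp D x) (hdy : Commute d y)
    (hp : p ∈ perp D x) (hq : q ∈ perp D x) (hr : r ∈ perp D x) (hyp : p ∈ perp D y) (hyq : q ∈ perp D y)
    (hyr : r ∈ perp D y) (hpq : Commute p q) (hsum : ψ y + ψ p + ψ q + ψ r = 0) :
    ind d p + ind d q + ind d r = 1 := by
  obtain ⟨g, hg⟩ := hF.trans y hy.1 x hx
  obtain ⟨φ, Hy⟩ : ∃ φ, Chart Q B D y φ := ⟨_, H.move hF hg⟩
  have hxy : x ∈ perp D y := ⟨hx, hy.2.1.symm, hy.2.2.symm⟩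
  have hdy' : d ∈ perp D y := ⟨hd, fun e => hxd (e ▸ hy.2.2), hdy.symm⟩
  have hw : ∀ e ∈ perp D y, B (φ e) (φ x + φ p + φ q + φ r) = ind e x + ind e p + ind e q + ind e r := by
    intro e he
    rw [map_add, map_add, map_add, Hy.ind e he x hxy, Hy.ind e he p hyp, Hy.ind e he q hyq, Hy.ind e he r hyr]
  have haz : B (φ x) (φ x + φ p + φ q + φ r) = 0 := by
    rw [hw x hxy, ind_of_commute (Commute.refl x), ind_of_commute hp.2.2, ind_of_commute hq.2.2,
      ind_of_commute hr.2.2]
    simp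
  have hdet : ∀ u, Q u = 1 → B (φ x) u = 0 → B u (φ x + φ p + φ q + φ r) = 0 := by
    intro u hu hxu
    obtain ⟨e, he, rfl⟩ := Hy.surj u hu
    rw [← Hy.ind x hxy e he, ind_zero_iff] at hxu
    rcases eq_or_ne e x with rfl | hne
    · exact haz
    have hex : e ∈ perp D x := ⟨he.1, hne, hxu⟩
    rw [hw e he, ind_of_commute hxu.symm, zero_add, H.ind e hex p hp, H.ind e hex q hq, H.ind e hex r hr,
      ← map_add, ← map_add]
    have e1 : ψ p + ψ q + ψ r = ψ y := by
      have : ψ y + (ψ p + ψ q + ψ r) = ψ y + ψ y := by rw [add_self', ← add_assoc, ← add_assoc]; exact hsum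
      exact add_left_cancel this
    rw [e1, ← H.ind e hex y hy, ind_of_commute he.2.2.symm]
  rcases detect C (Hy.one x hxy) haz hdet with hz | hz
  · have h := hw d hdy'
    rw [hz, map_zero, ind_comm d x, ind_of_not hxd] at h
    exact (CharTwo.add_eq_zero.1 (by rw [← add_assoc, ← add_assoc]; exact h.symm)).symm
  · exfalso
    rw [add_assoc, add_assoc, add_eq_left, ← add_assoc] at hz
    have e : φ r = φ p + φ q := (eq_of_sub_eq_zero (a := φ p + φ q) (b := φ r) (by
      rw [sub_eq_add_neg, show -φ r = φ r from funext fun i => CharTwo.neg_eq (φ r i)]; exact hz)).symm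
    have h1 := Hy.one r hyr
    rw [e, C.add, Hy.one p hyp, Hy.one q hyq, ← Hy.ind p hyp q hyq, ind_of_commute hpq] at h1
    exact absurd h1 (by decide)

/-- A member away from `x` has no two commuting common neighbours with it. -/
theorem no_pair (h7 : 7 ≤ Fintype.card ι) {d a b : G} (hd : d ∈ D) (hxd : ¬ Commute x d) (ha : a ∈ perp D x)
    (hb : b ∈ perp D x) (hne : a ≠ b) (hab : Commute a b) (hda : Commute d a) (hdb : Commute d b) : False := by
  classical
  set A := ψ a with hA
  set w1 := ψ a + ψ b with hw1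
  have hAB : B (ψ a) (ψ b) = 0 := by rw [← H.ind a ha b hb, ind_of_commute hab]
  have hQ1 : Q w1 = 0 := by rw [hw1, C.add, H.one a ha, H.one b hb, hAB]; decide
  have hA1 : B A w1 = 0 := by rw [hw1, map_add, self0 C, hAB, add_zero]
  have hw10 : w1 ≠ 0 := fun e => hne (H.inj ha hb (add_right_cancel (e.trans (add_self' (ψ b)).symm)))
  obtain ⟨w2, hQ2, hw2, hw2'⟩ := exists_singular C ![A, w1] 0 (H.one a ha) (fun i => by
    fin_cases i
    exacts [self0 C A, (C.symm _ _).trans hA1]) (by omega)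
  have hA2 : B A w2 = 0 := hw2 0
  have h12 : B w1 w2 = 0 := hw2 1
  obtain ⟨w3, hQ3, hw3, hw3'⟩ := exists_singular C ![A, w1, w2] 0 (H.one a ha) (fun i => by
    fin_cases i
    exacts [self0 C A, (C.symm _ _).trans hA1, (C.symm _ _).trans hA2]) (by omega)
  have hA3 : B A w3 = 0 := hw3 0
  have h13 : B w1 w3 = 0 := hw3 1
  have h23 : B w2 w3 = 0 := hw3 2
  let P : ZMod 2 × ZMod 2 × ZMod 2 → ι → ZMod 2 := fun s => A + s.1 • w1 + s.2.1 • w2 + s.2.2 • w3
  have hPB : ∀ s t, B (P s) (P t) = 0 := fun s t => by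
    simp only [P, map_add, map_smul, LinearMap.add_apply, LinearMap.smul_apply, self0 C, hA1, hA2, hA3, h12,
      h13, h23, C.symm w1 A, C.symm w2 A, C.symm w3 A, C.symm w2 w1, C.symm w3 w1, C.symm w3 w2, smul_zero,
      add_zero]
  have hPQ : ∀ s, Q (P s) = 1 := fun s => by
    simp only [P, C.add, C.smul, hQ1, hQ2, hQ3, H.one a ha, hA, map_add, map_smul, LinearMap.add_apply,
      LinearMap.smul_apply, mul_zero, add_zero]
    simp only [← hA, hA1, hA2, hA3, h12, h13, h23, smul_zero, add_zero]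
  have hPsum : ∀ s p q r, s + p + q + r = 0 → P s + P p + P q + P r = 0 := fun s p q r h => by
    have e : P s + P p + P q + P r =
        (A + A + (A + A)) + (s + p + q + r).1 • w1 + (s + p + q + r).2.1 • w2 + (s + p + q + r).2.2 • w3 := by
      simp only [P, Prod.fst_add, Prod.snd_add, add_smul]
      abel
    rw [e, h]
    simp [add_self']
  have hPinj : ∀ s t, P s = P t → s = t := by
    have hs4 : ∀ s t : ZMod 2 × ZMod 2 × ZMod 2, s + t + s + t + (0, 0, 0) = 0 := by decide
    have hst : ∀ s t : ZMod 2 × ZMod 2 × ZMod 2, s + t = 0 → s = t := by decide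
    intro s t h
    have h' : P (s + t) = A := by
      have := hPsum (s + t) s t (0, 0, 0) (hs4 s t)
      rw [h, show P (0, 0, 0) = A from by simp [P], add_assoc (P (s + t)), add_self', add_zero] at this
      exact add_right_cancel (this.trans (add_self' A).symm)
    refine hst s t ?_
    generalize s + t = u at h' ⊢
    obtain ⟨i, j, k⟩ := u
    simp only [P, add_assoc, add_eq_left] at h'
    rw [← add_assoc] at h'
    rcases zmod2_cases' k with rfl | rfl
    · rw [zero_smul, add_zero] at h'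
      rcases zmod2_cases' j with rfl | rfl
      · rw [zero_smul, add_zero] at h'
        rcases zmod2_cases' i with rfl | rfl
        · rfl
        · rw [one_smul] at h'; exact absurd h' hw10
      · refine absurd ?_ hw2'
        rw [one_smul] at h'
        rw [show w2 = i • w1 from (add_left_cancel ((add_self' (i • w1)).trans h'.symm)).symm]
        exact Submodule.smul_mem _ _ (Submodule.subset_span ⟨1, rfl⟩)
    · refine absurd ?_ hw3'
      rw [one_smul] at h'
      rw [show w3 = i • w1 + j • w2 from (add_left_cancel ((add_self' (i • w1 + j • w2)).trans h'.symm)).symm]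
      exact Submodule.add_mem _ (Submodule.smul_mem _ _ (Submodule.subset_span ⟨1, rfl⟩))
        (Submodule.smul_mem _ _ (Submodule.subset_span ⟨2, rfl⟩))
  choose m hm hψm using fun s => H.surj (P s) (hPQ s)
  have hmc : ∀ s t, Commute (m s) (m t) := fun s t => by
    rw [← ind_zero_iff, H.ind _ (hm s) _ (hm t), hψm, hψm, hPB]
  refine no_func (fun s => ind d (m s)) (fun s p q r hsum h1 h2 h3 hs => ?_) ?_ ?_
  · have hperp : ∀ t, s ≠ t → m t ∈ perp D (m s) := fun t hst =>
      ⟨(hm t).1, fun e => hst (hPinj s t (by rw [← hψm s, ← hψm t, e])), hmc s t⟩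
    exact parity hF C hx H hd hxd (hm s) (ind_zero_iff.1 hs) (hm p) (hm q) (hm r) (hperp p h1) (hperp q h2)
      (hperp r h3) (hmc p q) (by rw [hψm, hψm, hψm, hψm]; exact hPsum s p q r hsum)
  · rw [show m (0, 0, 0) = a from H.inj (hm _) ha (by simp [hψm, P, hA])]
    exact ind_of_commute hda
  · rw [show m (1, 0, 0) = b from H.inj (hm _) hb (by simp [hψm, P, hA, hw1, ← add_assoc, add_self'])]
    exact ind_of_commute hdb

/-- The neighbourhood cannot be of that kind. -/
theorem false_of_chart (h7 : 7 ≤ Fintype.card ι) : False := by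
  obtain ⟨d, hd, hxd⟩ := exists_not_commute hF hx
  obtain ⟨y, hy, hdy⟩ := common_nonempty hF hx hd hxd
  obtain ⟨g, hg⟩ := hF.trans y hy.1 x hx
  obtain ⟨φ, Hy⟩ : ∃ φ, Chart Q B D y φ := ⟨_, H.move hF hg⟩
  have hxy : x ∈ perp D y := ⟨hx, hy.2.1.symm, hy.2.2.symm⟩
  have hdy' : d ∈ perp D y := ⟨hd, fun e => hxd (e ▸ hy.2.2), hdy.symm⟩
  obtain ⟨v, hv, hxv, hdv⟩ := exists_one_perp C (a := φ x) (b := φ d)
    (by rw [← Hy.ind x hxy d hdy', ind_of_not hxd]) (by omega)
  obtain ⟨r, hr, rfl⟩ := Hy.surj v hv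
  rw [← Hy.ind x hxy r hr, ind_zero_iff] at hxv
  rw [← Hy.ind d hdy' r hr, ind_zero_iff] at hdv
  exact no_pair hF C hx H h7 hd hxd hy ⟨hr.1, fun e => hxd (e ▸ hdv).symm, hxv⟩ hr.2.1.symm hr.2.2 hdy hdv

end Cfsg.Lib.Fischer.Thm.OrthTwo

namespace Cfsg.Lib.Fischer.Thm

open Cfsg Cfsg.Lib.Fischer Cfsg.Lib.Linear.Orth

universe u

/-- No neighbourhood is orthogonal over two elements of dimension at least eight. -/
theorem orthTwoStep : OrthTwoStep.{u} := by
  intro G _ _ D hF x hx _
  refine ⟨fun m hm h => ?_, fun m hm h => ?_⟩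
  · obtain ⟨e, he⟩ := h
    obtain ⟨B, C⟩ := exists_space_plus (F := ZMod 2) m
    obtain ⟨ψ, H⟩ := OrthTwo.exists_chart hF hx C e he
    exact OrthTwo.false_of_chart hF C hx H (by rw [Fintype.card_sum, Fintype.card_fin]; omega)
  · obtain ⟨e, he⟩ := h
    obtain ⟨B, C⟩ := exists_space_minus (F := ZMod 2) m 1 1 (by decide)
    obtain ⟨ψ, H⟩ := OrthTwo.exists_chart hF hx C e he
    exact OrthTwo.false_of_chart hF C hx H (by
      simp only [Fintype.card_sum, Fintype.card_fin]; omega)

end Cfsg.Lib.Fischer.Thm
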