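import Cfsg.Agent.Lib.Fischer.RankThree
import Cfsg.Agent.Lib.Fischer.Polar.Symp

/-!
# Counting neighbours

With `k` neighbours, `λ` common neighbours of a commuting and `μ` of a non-commuting pair and `l` members
away from one: `μ l + k (λ + 1) = k k` and `2 k + 2 ≤ l + 2 μ`; with equality, of three members on a line
one commutes with any given member.
-/

set_option autoImplicit false
set_option linter.unusedSectionVars false
set_option linter.style.haveILetI false

namespace Cfsg.Lib.Fischer.Thm

open Cfsg Cfsg.Lib.Fischer Cfsg.Lib.Fischer.Polar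

variable {G : Type*} [Group G] [Finite G] {D : Set G}

/-- The members not commuting with `x`. -/
def far (D : Set G) (x : G) : Set G := {d | d ∈ D ∧ ¬ Commute x d}

/-- The common neighbours of two members. -/
def inner (D : Set G) (x y : G) : Set G := perp D x ∩ perp D y

theorem inner_eq_common {x e : G} (hxe : ¬ Commute x e) : inner D x e = common D x e := by
  ext d
  exact ⟨fun h => ⟨h.1, h.2.2.2⟩, fun h => ⟨h.1, h.1.1, fun he => hxe (he ▸ h.1.2.2), h.2⟩⟩

variable (hF : IsFischer D)
include hF

theorem perp_image (g x : G) : perp D (g * x * g⁻¹) = (fun z => g * z * g⁻¹) '' perp D x := by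
  ext z
  rw [mem_perp_conj hF.toTrans]
  refine ⟨fun h => ⟨_, h, by simp [mul_assoc]⟩, ?_⟩
  rintro ⟨w, hw, rfl⟩
  simpa [mul_assoc] using hw

theorem conj_fun_inj (g : G) : Function.Injective fun z : G => g * z * g⁻¹ :=
  fun _ _ h => mul_left_cancel (mul_right_cancel h)

theorem inner_card (g x y : G) : (inner D (g * x * g⁻¹) (g * y * g⁻¹)).ncard = (inner D x y).ncard := by
  rw [inner, perp_image hF, perp_image hF, ← Set.image_inter (conj_fun_inj hF g),
    Set.ncard_image_of_injective _ (conj_fun_inj hF g)]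
  rfl

theorem perp_card {x a : G} (hx : x ∈ D) (ha : a ∈ D) : (perp D a).ncard = (perp D x).ncard := by
  obtain ⟨g, rfl⟩ := hF.trans x hx a ha
  rw [perp_image hF, Set.ncard_image_of_injective _ (conj_fun_inj hF g)]

/-- A pair of members moved onto another pair of the same kind. -/
theorem exists_move_far {x e a b : G} (hx : x ∈ D) (he : e ∈ D) (hxe : ¬ Commute x e) (ha : a ∈ D) (hb : b ∈ D)
    (hab : ¬ Commute a b) : ∃ g : G, g * x * g⁻¹ = a ∧ g * e * g⁻¹ = b := by
  obtain ⟨g, hg⟩ := hF.trans x hx a ha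
  have hb' : g⁻¹ * b * g ∈ D := by simpa using hF.conj g⁻¹ b hb
  have hxb : ¬ Commute x (g⁻¹ * b * g) := fun h => hab (by
    have := (Commute.conj_iff g).2 h
    rw [hg] at this
    simpa [mul_assoc] using this)
  obtain ⟨k, hk, hkb⟩ := orb_all hF hx he hb' hxe hxb
  refine ⟨g * k, ?_, ?_⟩
  · rw [show g * k * x * (g * k)⁻¹ = g * (k * x * k⁻¹) * g⁻¹ by group, (conj_mem_perp hF.toTrans hx hk).1, hg]
  · rw [show g * k * e * (g * k)⁻¹ = g * (k * e * k⁻¹) * g⁻¹ by group, hkb]
    group

theorem exists_move_near {x y a b : G} (hx : x ∈ D) (hy : y ∈ perp D x) (ha : a ∈ D) (hb : b ∈ perp D a) :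
    ∃ g : G, g * x * g⁻¹ = a ∧ g * y * g⁻¹ = b := by
  obtain ⟨g, hg⟩ := hF.trans x hx a ha
  have hb' : g⁻¹ * b * g ∈ perp D x := by
    have := conj_perp hF g⁻¹ a hb
    rw [← hg] at this
    simpa [mul_assoc] using this
  obtain ⟨k, hk, hkb⟩ := perp_transitive hF hx hy hb'
  refine ⟨g * k, ?_, ?_⟩
  · rw [show g * k * x * (g * k)⁻¹ = g * (k * x * k⁻¹) * g⁻¹ by group,
      (conj_mem_perp hF.toTrans hx (Subgroup.closure_mono (Set.subset_insert _ _) hk)).1, hg]
  · rw [show g * k * y * (g * k)⁻¹ = g * (k * y * k⁻¹) * g⁻¹ by group, hkb]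
    group

theorem inner_far {x e a b : G} (hx : x ∈ D) (he : e ∈ D) (hxe : ¬ Commute x e) (ha : a ∈ D) (hb : b ∈ D)
    (hab : ¬ Commute a b) : (inner D a b).ncard = (inner D x e).ncard := by
  obtain ⟨g, rfl, rfl⟩ := exists_move_far hF hx he hxe ha hb hab
  exact inner_card hF g x e

theorem inner_near {x y a b : G} (hx : x ∈ D) (hy : y ∈ perp D x) (ha : a ∈ D) (hb : b ∈ perp D a) :
    (inner D a b).ncard = (inner D x y).ncard := by
  obtain ⟨g, rfl, rfl⟩ := exists_move_near hF hx hy ha hb
  exact inner_card hF g x y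

/-- The equation of the parameters. -/
theorem count {x e y : G} (hx : x ∈ D) (he : e ∈ D) (hxe : ¬ Commute x e) (hy : y ∈ perp D x) :
    (inner D x e).ncard * (far D x).ncard + (perp D x).ncard * ((inner D x y).ncard + 1) =
      (perp D x).ncard * (perp D x).ncard := by
  classical
  haveI : Fintype G := Fintype.ofFinite G
  set P := (perp D x).toFinset with hP
  set L := (far D x).toFinset with hL
  have hcomm : ∀ d ∈ L, (P.filter fun z => Commute z d).card = (inner D x e).ncard := by
    intro d hd
    rw [hL, Set.mem_toFinset] at hd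
    rw [← inner_far hF hx he hxe hx hd.1 hd.2, inner_eq_common hd.2, Set.ncard_eq_toFinset_card']
    congr 1
    ext z
    simp only [hP, Finset.mem_filter, Set.mem_toFinset]
    exact ⟨fun h => ⟨h.1, h.2.symm⟩, fun h => ⟨h.1, h.2.symm⟩⟩
  have hrow : ∀ z ∈ P, (L.filter fun d => Commute z d).card + ((inner D x y).ncard + 1) = (perp D x).ncard := by
    intro z hz
    rw [hP, Set.mem_toFinset] at hz
    rw [← inner_near hF hx hy hx hz, ← perp_card hF hx hz.1, Set.ncard_eq_toFinset_card',
      Set.ncard_eq_toFinset_card']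
    have hsplit : (perp D z).toFinset =
        (L.filter fun d => Commute z d) ∪ insert x (inner D x z).toFinset := by
      ext d
      simp only [hL, Set.mem_toFinset, Finset.mem_union, Finset.mem_filter, Finset.mem_insert]
      constructor
      · intro h
        by_cases hxd : Commute x d
        · rcases eq_or_ne d x with e' | e'
          · exact Or.inr (Or.inl e')
          · exact Or.inr (Or.inr ⟨⟨h.1, e', hxd⟩, h⟩)
        · exact Or.inl ⟨⟨h.1, hxd⟩, h.2.2⟩
      · rintro (⟨h1, h2⟩ | e' | h)
        · exact ⟨h1.1, fun e' => h1.2 (e' ▸ hz.2.2), h2⟩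
        · subst e'; exact ⟨hx, hz.2.1.symm, hz.2.2.symm⟩
        · exact h.2
    rw [hsplit, Finset.card_union_of_disjoint, Finset.card_insert_of_notMem]
    · simp only [Set.mem_toFinset]; exact fun h => h.1.2.1 rfl
    · rw [Finset.disjoint_left]
      intro d hd hd'
      simp only [hL, Finset.mem_filter, Set.mem_toFinset] at hd
      simp only [Finset.mem_insert, Set.mem_toFinset] at hd'
      rcases hd' with rfl | h
      · exact hd.1.2 (Commute.refl d)
      · exact hd.1.2 h.1.2.2
  have h1 := Finset.sum_card_bipartiteAbove_eq_sum_card_bipartiteBelow (fun z d : G => Commute z d) (s := P) (t := L)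
  simp only [Finset.bipartiteAbove, Finset.bipartiteBelow] at h1
  have h2 : ∑ z ∈ P, ((L.filter fun d => Commute z d).card + ((inner D x y).ncard + 1)) =
      P.card * (perp D x).ncard := Finset.sum_const_nat hrow
  rw [Finset.sum_add_distrib, h1, Finset.sum_const_nat hcomm, Finset.sum_const, smul_eq_mul] at h2
  simp only [hP, hL, ← Set.ncard_eq_toFinset_card'] at h2
  linarith [h2]

/-- The members away from `x` commuting with one of the other two members of its line with `e`. -/
theorem far_split {x e : G} (hx : x ∈ D) (he : e ∈ D) (hxe : ¬ Commute x e) :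
    2 * (perp D x).ncard + 2 ≤ (far D x).ncard + 2 * (inner D x e).ncard ∧
    ((far D x).ncard + 2 * (inner D x e).ncard = 2 * (perp D x).ncard + 2 →
      ∀ d ∈ far D x, Commute e d ∨ Commute (cj x e) d) := by
  classical
  haveI : Fintype G := Fintype.ofFinite G
  have hD := hF.toTrans
  have hc := cj_mem hD hx he
  have hxc : ¬ Commute x (cj x e) := not_commute_cj hD hx hxe
  have key : ∀ c ∈ D, ¬ Commute x c →
      ({d | d ∈ far D x ∧ Commute c d} : Set G).ncard + (inner D x e).ncard = (perp D x).ncard + 1 := by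
    intro c hc hxc
    rw [← perp_card hF hx hc, ← inner_far hF hx he hxe hx hc hxc]
    have e1 : insert c (perp D c) = {d | d ∈ far D x ∧ Commute c d} ∪ inner D x c := by
      ext d
      constructor
      · rintro (rfl | h)
        · exact Or.inl ⟨⟨hc, hxc⟩, Commute.refl d⟩
        · by_cases hxd : Commute x d
          · exact Or.inr ⟨⟨h.1, fun e' => hxc (e' ▸ h.2.2.symm), hxd⟩, h⟩
          · exact Or.inl ⟨⟨h.1, hxd⟩, h.2.2⟩
      · rintro (⟨h1, h2⟩ | h)
        · rcases eq_or_ne d c with e' | e'
          · exact Or.inl e'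
          · exact Or.inr ⟨h1.1, e', h2⟩
        · exact Or.inr h.2
    rw [← Set.ncard_insert_of_notMem (show c ∉ perp D c from fun h => h.2.1 rfl) (Set.toFinite _), e1,
      Set.ncard_union_eq ?_ (Set.toFinite _) (Set.toFinite _)]
    rw [Set.disjoint_left]
    exact fun d hd hd' => hd.1.2 hd'.1.2.2
  have hdis : Disjoint ({d | d ∈ far D x ∧ Commute e d} : Set G) {d | d ∈ far D x ∧ Commute (cj x e) d} := by
    rw [Set.disjoint_left]
    intro d hd hd'
    refine hd.1.2 ?_
    have h2 := hd'.2
    rw [braid hD hx he hxe] at h2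
    exact ((commute_cj_of hD he hd.2).1 h2.symm).symm
  have hsub : {d | d ∈ far D x ∧ Commute e d} ∪ {d | d ∈ far D x ∧ Commute (cj x e) d} ⊆ far D x :=
    Set.union_subset (fun d h => h.1) fun d h => h.1
  have hle := Set.ncard_le_ncard hsub (Set.toFinite _)
  rw [Set.ncard_union_eq hdis (Set.toFinite _) (Set.toFinite _)] at hle
  have k1 := key e he hxe
  have k2 := key _ hc hxc
  refine ⟨by omega, fun h d hd => ?_⟩
  have heq := Set.eq_of_subset_of_ncard_le hsub
    (by rw [Set.ncard_union_eq hdis (Set.toFinite _) (Set.toFinite _)]; omega) (Set.toFinite _)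
  rw [← heq] at hd
  exact hd.imp (fun h => h.2) fun h => h.2

/-- With equality in `far_split` the non-commuting indicators add along every line. -/
theorem parity_of_count {x e : G} (hx : x ∈ D) (he : e ∈ D) (hxe : ¬ Commute x e)
    (h : (far D x).ncard + 2 * (inner D x e).ncard = 2 * (perp D x).ncard + 2) :
    ∀ a ∈ D, ∀ b ∈ D, ¬ Commute a b → ∀ d ∈ D, ind (cj a b) d = ind a d + ind b d := by
  intro a ha b hb hab d hd
  have hD := hF.toTrans
  by_cases had : Commute a d
  · rw [ind_of_commute had, zero_add]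
    by_cases hbd : Commute b d
    · rw [ind_of_commute hbd, ind_of_commute ((commute_cj_of hD ha had).2 hbd.symm).symm]
    · rw [ind_of_not hbd, ind_of_not fun h => hbd ((commute_cj_of hD ha had).1 h.symm).symm]
  by_cases hbd : Commute b d
  · rw [ind_of_commute hbd, add_zero, ind_of_not had, ind_of_not fun h => had ?_]
    rw [braid hD ha hb hab] at h
    exact ((commute_cj_of hD hb hbd).1 h.symm).symm
  rw [ind_of_not had, ind_of_not hbd, CharTwo.add_self_eq_zero]
  refine ind_of_commute ?_
  obtain ⟨g, hga, hgb⟩ := exists_move_far hF hx he hxe ha hb hab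
  set d' := g⁻¹ * d * g with hd'
  have hdd : d = g * d' * g⁻¹ := by rw [hd']; group
  have hd'D : d' ∈ D := by simpa [hd'] using hD.conj g⁻¹ d hd
  rw [hdd, ← hga, Commute.conj_iff] at had
  rw [hdd, ← hgb, Commute.conj_iff] at hbd
  have hc := ((far_split hF hx he hxe).2 h d' ⟨hd'D, had⟩).resolve_left hbd
  have := (Commute.conj_iff g).2 hc
  rw [cj_def, show g * (x * e * x) * g⁻¹ = g * x * g⁻¹ * (g * e * g⁻¹) * (g * x * g⁻¹) by group, hga, hgb,
    ← hdd] at this
  exact this

end Cfsg.Lib.Fischer.Thm
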