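import Cfsg.Agent.Lib.Fischer.Relations.Twenty.Image
import Cfsg.Prelude.Def_FischerSpaces

/-!
# The pairs occurring in Fischer's theorem

Each predicate says that `(G, D)` is isomorphic to a named group with its named class.
-/

set_option autoImplicit false

namespace Cfsg.Lib.Fischer.Thm

open Cfsg Cfsg.Lib.Fischer Cfsg.Lib.Fischer.Relations

variable (G : Type*) [Group G] (D : Set G)

/-- The symmetric group of degree `n` with its transpositions. -/
def IsSym (n : ℕ) : Prop :=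
  ∃ e : G ≃* Equiv.Perm (Fin n), e '' D = {σ : Equiv.Perm (Fin n) | σ.IsSwap}

/-- The symplectic group of dimension `2 m` over two elements with its transvections. -/
def IsSp (m : ℕ) : Prop :=
  ∃ e : G ≃* Matrix.symplecticGroup (Fin m) (ZMod 2),
    e '' D = {g : Matrix.symplecticGroup (Fin m) (ZMod 2) |
      ((g : Matrix (Fin m ⊕ Fin m) (Fin m ⊕ Fin m) (ZMod 2)) - 1).rank = 1}

/-- The projective special unitary group of dimension `n` over four elements with its transvections. -/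
def IsPSU (n : ℕ) : Prop :=
  ∃ (F : Type) (_ : Field F) (_ : Fintype F), Fintype.card F = 4 ∧ ∃ e : G ≃* Cfsg.PSU n F 2,
    e '' D = (QuotientGroup.mk : ↥(Cfsg.SU n F 2) → Cfsg.PSU n F 2) '' {g : ↥(Cfsg.SU n F 2) |
      (((g : Matrix.SpecialLinearGroup (Fin n) F) : Matrix (Fin n) (Fin n) F) - 1).rank = 1}

/-- The hyperbolic orthogonal group of dimension `2 m` over two elements with its transvections. -/
def IsOPlus (m : ℕ) : Prop :=
  ∃ e : G ≃* ↥(Cfsg.isometryGroup (ZMod 2) (Cfsg.quadFormPlus m (ZMod 2))),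
    e '' D = {g : ↥(Cfsg.isometryGroup (ZMod 2) (Cfsg.quadFormPlus m (ZMod 2))) |
      (((g : GL (Fin m ⊕ Fin m) (ZMod 2)) : Matrix (Fin m ⊕ Fin m) (Fin m ⊕ Fin m) (ZMod 2)) - 1).rank = 1}

/-- The elliptic orthogonal group of dimension `2 m + 2` over two elements with its transvections. -/
def IsOMinus (m : ℕ) : Prop :=
  ∃ e : G ≃* ↥(Cfsg.isometryGroup (ZMod 2) (Cfsg.quadFormMinus m (ZMod 2) 1 1)),
    e '' D = {g : ↥(Cfsg.isometryGroup (ZMod 2) (Cfsg.quadFormMinus m (ZMod 2) 1 1)) |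
      (((g : GL ((Fin m ⊕ Fin m) ⊕ Fin 2) (ZMod 2)) :
        Matrix ((Fin m ⊕ Fin m) ⊕ Fin 2) ((Fin m ⊕ Fin m) ⊕ Fin 2) (ZMod 2)) - 1).rank = 1}

/-- The reflections of norm `c` of an `n`-dimensional form of discriminant `μ` over three elements, modulo the
centre of the group they generate. -/
def IsRefl (n : ℕ) (μ c : ZMod 3) : Prop :=
  ∃ Q : QuadraticForm (ZMod 3) (Fin n → ZMod 3), (QuadraticMap.polarBilin Q).Nondegenerate ∧
    Cfsg.polarGramDet (⇑Q) = μ ∧ c ≠ 0 ∧
    ∃ e : G ≃* ↥(Cfsg.reflectionSubgroup (⇑Q) c) ⧸ Subgroup.center ↥(Cfsg.reflectionSubgroup (⇑Q) c),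
      e '' D = (QuotientGroup.mk : ↥(Cfsg.reflectionSubgroup (⇑Q) c) → _) ''
        {g : ↥(Cfsg.reflectionSubgroup (⇑Q) c) |
          (g : ↥(Cfsg.isometryGroup (ZMod 3) (⇑Q))) ∈ Cfsg.reflectionsOfNorm (⇑Q) c}

/-- The list for groups whose local 2- and 3-cores are central. -/
def InCentral : Prop :=
  (∃ n, 7 ≤ n ∧ IsSym G D n) ∨ ((∃ m, 3 ≤ m ∧ IsOPlus G D m) ∨ ∃ m, 2 ≤ m ∧ IsOMinus G D m) ∨
    (∃ n, 5 ≤ n ∧ ∃ μ c, IsRefl G D n μ c) ∨
    (Cfsg.IsOfTypeM22 G D ∨ Cfsg.IsOfTypeM23 G D ∨ Cfsg.IsOfTypeM24 G D)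

/-- The list for groups with trivial centre, perfect derived group and trivial solvable radical. -/
def InList : Prop :=
  (∃ m, 2 ≤ m ∧ IsSp G D m) ∨ (∃ n, 4 ≤ n ∧ IsPSU G D n) ∨ IsSym G D 5 ∨ InCentral G D

/-- The 2- and 3-core of the group of the neighbours of `x` are central. -/
def CentralAt (x : G) : Prop :=
  Cfsg.pCore 2 ↥(Subgroup.closure (perp D x)) ≤ Subgroup.center ↥(Subgroup.closure (perp D x)) ∧
    Cfsg.pCore 3 ↥(Subgroup.closure (perp D x)) ≤ Subgroup.center ↥(Subgroup.closure (perp D x))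

/-- The neighbours of a member, in their group modulo its centre. -/
abbrev Loc (x : G) := ↥(Subgroup.closure (perp D x)) ⧸ Subgroup.center ↥(Subgroup.closure (perp D x))

/-- The class of the neighbours of a member in `Loc D x`. -/
abbrev locSet (x : G) : Set (Loc G D x) := Relations.image (perp D x)

end Cfsg.Lib.Fischer.Thm
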