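import Cfsg.Agent.Lib.Fischer.Thm.Counts
import Cfsg.Agent.Lib.Fischer.Thm.List

/-!
# Counting in a neighbourhood and in its class modulo the centre
-/

set_option autoImplicit false
set_option linter.unusedSectionVars false

namespace Cfsg.Lib.Fischer.Thm

open Cfsg Cfsg.Lib.Fischer Cfsg.Lib.Fischer.Relations

variable {G : Type*} [Group G] [Finite G] {D : Set G} (hF : IsFischer D) {x : G} (hx : x ∈ D)
include hF hx

/-- The neighbours are as many as their images. -/
theorem ncard_locSet : (perp D x).ncard = (locSet G D x).ncard := by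
  have hD := hF.toTrans
  have hnc : ∀ a ∈ perp D x, ∃ e ∈ perp D x, ¬ Commute a e := fun a ha =>
    exists_perp_noncommute hD (fun a ha b hb h => eq_of_commute_iff hF ha hb h) hx ha
  exact Set.ncard_congr (fun a ha => bar ha) (fun a ha => bar_mem ha)
    (fun a b ha hb e => bar_inj hD (fun _ h => h.1) hnc ha hb e) (fun b hb => exists_bar hb)

/-- The common neighbours of `x` and a neighbour are the neighbours of the image. -/
theorem ncard_inner_loc {y : G} (hy : y ∈ perp D x) :
    (inner D x y).ncard = (perp (locSet G D x) (bar hy)).ncard := by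
  have hD := hF.toTrans
  have hnc : ∀ a ∈ perp D x, ∃ e ∈ perp D x, ¬ Commute a e := fun a ha =>
    exists_perp_noncommute hD (fun a ha b hb h => eq_of_commute_iff hF ha hb h) hx ha
  refine Set.ncard_congr (fun a ha => bar ha.1)
    (fun a ha => ⟨bar_mem ha.1, fun e => ha.2.2.1 (bar_inj hD (fun _ h => h.1) hnc ha.1 hy e),
      (bar_commute hD (fun _ h => h.1) hy ha.1).2 ha.2.2.2⟩)
    (fun a b ha hb e => bar_inj hD (fun _ h => h.1) hnc ha.1 hb.1 e) (fun b hb => ?_)
  obtain ⟨a, ha, rfl⟩ := exists_bar hb.1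
  exact ⟨a, ⟨ha, ha.1, fun e => hb.2.1 (by subst e; rfl), (bar_commute hD (fun _ h => h.1) hy ha).1 hb.2.2⟩, rfl⟩

end Cfsg.Lib.Fischer.Thm
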