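import Cfsg.Agent.Lib.Fischer.Thm.List
import Cfsg.Agent.Lib.Fischer.Polar.Lines

/-!
# The neighbours of a member form a class of the same kind when their cores are central

Their commuting graph is connected: otherwise some set of common neighbours would contain both a member
commuting with no other of them and a member commuting with another one, yet all of them are conjugate.
-/

set_option autoImplicit false
set_option linter.unusedSectionVars false
set_option linter.style.haveILetI false

namespace Cfsg.Lib.Fischer.Thm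

open Cfsg Cfsg.Lib.Fischer Cfsg.Lib.Fischer.Relations

variable {G : Type*} [Group G] [Finite G] {D : Set G}

/-- A joining of two neighbours of `a` by a chain of commuting neighbours of `a`. -/
def Joined (D : Set G) (a u v : G) : Prop :=
  Relation.ReflTransGen (fun p q => p ∈ perp D a ∧ q ∈ perp D a ∧ Commute p q) u v

theorem Joined.symm' {a u v : G} (h : Joined D a u v) : Joined D a v u := by
  induction h with
  | refl => exact Relation.ReflTransGen.refl
  | tail _ h ih => exact Relation.ReflTransGen.head ⟨h.2.1, h.1, h.2.2.symm⟩ ih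

variable (hF : IsFischer D) {x : G} (hx : x ∈ D)

include hF hx

/-- The quotient of a neighbourhood group by its centre has trivial centre. -/
theorem center_loc : Subgroup.center (Loc G D x) = ⊥ := by
  have hD := hF.toTrans
  have hsep := fun a ha b hb h => eq_of_commute_iff hF (a := a) (b := b) ha hb h
  rw [eq_bot_iff]
  intro g hg
  obtain ⟨g, rfl⟩ := QuotientGroup.mk_surjective g
  rw [Subgroup.mem_bot, QuotientGroup.eq_one_iff, Subgroup.mem_center_iff]
  have hle : Subgroup.closure (perp D x) ≤ Subgroup.centralizer {(g : G)} := by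
    rw [Subgroup.closure_le]
    intro v hv
    have hv' : (g : G) * v * (g : G)⁻¹ ∈ perp D x :=
      ((conj_mem_perp hD hx (Subgroup.closure_mono (Set.subset_insert _ _) g.2)).2 v hv).1
    have e : bar hv' = bar hv := by
      have h := Subgroup.mem_center_iff.1 hg (bar hv)
      simp only [bar, ← QuotientGroup.mk_mul] at h ⊢
      rw [show (⟨(g : G) * v * (g : G)⁻¹, Subgroup.subset_closure hv'⟩ : Subgroup.closure (perp D x)) =
        g * ⟨v, Subgroup.subset_closure hv⟩ * g⁻¹ from rfl, QuotientGroup.mk_mul, ← h, ← QuotientGroup.mk_mul,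
        mul_inv_cancel_right]
    have e' := bar_inj hD (S := perp D x) (fun _ h => h.1)
      (fun a ha => exists_perp_noncommute hD hsep hx ha) hv' hv e
    exact Subgroup.mem_centralizer_singleton_iff.2 (mul_inv_eq_iff_eq_mul.1 e').symm
  intro k
  exact Subtype.ext (Subgroup.mem_centralizer_singleton_iff.1 (hle k.2))

/-- A commuting pair of neighbours exists. -/
theorem exists_commuting_pair
    (h3 : Cfsg.pCore 3 ↥(Subgroup.closure (perp D x)) ≤ Subgroup.center ↥(Subgroup.closure (perp D x))) :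
    ∃ a ∈ perp D x, ∃ b ∈ perp D x, a ≠ b ∧ Commute a b := by
  have hD := hF.toTrans
  have hT := Polar.trans_loc hF hx
  by_contra hcon
  push Not at hcon
  obtain ⟨y, hy, hyx, hxy⟩ := exists_perp hF hx
  have hy' : y ∈ perp D x := ⟨hy, hyx, hxy⟩
  obtain ⟨e, he, hye⟩ := exists_perp_noncommute hD
    (fun a ha b hb h => eq_of_commute_iff hF (a := a) (b := b) ha hb h) hx hy'
  have hnc : ∀ a ∈ Polar.locD D x, ∀ b ∈ Polar.locD D x, Commute a b → a = b := fun a ha b hb h => by
    by_contra hne
    exact hcon a ha b hb (fun e' => hne (Subtype.ext e')) (congrArg Subtype.val h.eq)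
  haveI : Fact (Nat.Prime 3) := ⟨Nat.prime_three⟩
  obtain ⟨yv, hyv⟩ : ∃ v : Polar.loc D x, (v : G) = y := ⟨⟨y, Subgroup.subset_closure hy'⟩, rfl⟩
  obtain ⟨ev, hev⟩ : ∃ v : Polar.loc D x, (v : G) = e := ⟨⟨e, Subgroup.subset_closure he⟩, rfl⟩
  have hym : yv ∈ Polar.locD D x := by rw [Polar.locD, Set.mem_ofPred, hyv]; exact hy'
  have hem : ev ∈ Polar.locD D x := by rw [Polar.locD, Set.mem_ofPred, hev]; exact he
  obtain ⟨P, hP, hsup⟩ := exists_three_normal hT hnc hym
  have hc : yv * ev ∈ Subgroup.center (Polar.loc D x) :=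
    h3 (Lib.Core.le_pCore' hP P.2 (mul_mem_three hT hP hym hem hsup))
  apply hye
  have h := congrArg Subtype.val (Subgroup.mem_center_iff.1 hc yv)
  simp only [Subgroup.coe_mul, hyv, hev] at h
  rw [← mul_assoc, mul_self hD hy, one_mul] at h
  show y * e = e * y
  nth_rw 1 [h]
  rw [← mul_assoc, ← mul_assoc, mul_self hD hy, one_mul]

/-- Any two neighbours are joined. -/
theorem joined (hc : CentralAt G D x) {u v : G} (hu : u ∈ perp D x) (hv : v ∈ perp D x) : Joined D x u v := by
  have hD := hF.toTrans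
  have hsep := fun a ha b hb h => eq_of_commute_iff hF (a := a) (b := b) ha hb h
  have hnc : ∀ a ∈ perp D x, ∃ e ∈ perp D x, ¬ Commute a e := fun a ha => exists_perp_noncommute hD hsep hx ha
  obtain ⟨a, ha, b, hb, hne, hab⟩ := exists_commuting_pair hF hx hc.2
  by_cases htr : ∀ p ∈ perp D x, ∀ q ∈ perp D x, ∀ r ∈ perp D x, Commute p q → Commute q r → Commute p r
  · exfalso
    have hT := Polar.trans_loc hF hx
    have hA : (⟨a, Subgroup.subset_closure ha⟩ : Polar.loc D x) ∈ Polar.locD D x := ha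
    have hB : (⟨b, Subgroup.subset_closure hb⟩ : Polar.loc D x) ∈ Polar.locD D x := hb
    have hsame : SameComm (Polar.locD D x) ⟨a, Subgroup.subset_closure ha⟩ ⟨b, Subgroup.subset_closure hb⟩ :=
      fun e he => ⟨fun h => Subtype.ext (htr b hb a ha e he hab.symm (congrArg Subtype.val h.eq)).eq,
        fun h => Subtype.ext (htr a ha b hb e he hab (congrArg Subtype.val h.eq)).eq⟩
    have hm := hc.1 (mul_mem_two_of_sameComm hT hA hB hsame)
    refine hne (bar_inj hD (S := perp D x) (fun _ h => h.1) hnc ha hb ?_)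
    refine QuotientGroup.eq.2 ?_
    rwa [inv_eq hT hA]
  push Not at htr
  obtain ⟨p, hp, q, hq, r, hr, hpq, hqr, hpr⟩ := htr
  by_contra huv
  obtain ⟨b', hb', hnj⟩ : ∃ b' ∈ perp D x, ¬ Joined D x p b' := by
    by_contra hall
    push Not at hall
    exact huv ((hall u hu).symm'.trans (hall v hv))
  have hxp : x ∈ perp D p := ⟨hx, hp.2.1.symm, hp.2.2.symm⟩
  have hxb' : Commute x b' := hb'.2.2
  have hpb' : ¬ Commute p b' := fun h => hnj (Relation.ReflTransGen.single ⟨hp, hb', h⟩)
  have hiso : ∀ w ∈ perp D p, Commute b' w → Commute w x → w = x := fun w hw hbw hwx => by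
    by_contra hne
    have hwx' : w ∈ perp D x := ⟨hw.1, hne, hwx.symm⟩
    exact hnj ((Relation.ReflTransGen.single ⟨hp, hwx', hw.2.2⟩).tail ⟨hwx', hb', hbw.symm⟩)
  obtain ⟨k, hk, hkb⟩ := orb_all hF hp.1 hr.1 hb'.1 hpr hpb'
  have hkp := conj_mem_perp hD hp.1 hk
  have hx' : k * x * k⁻¹ ∈ perp D p := (hkp.2 x hxp).1
  have hq' : k * q * k⁻¹ ∈ perp D p := (hkp.2 q ⟨hq.1, fun e => hpr (e ▸ hqr), hpq⟩).1
  have hx'b : Commute b' (k * x * k⁻¹) := hkb ▸ (Commute.conj_iff k).2 hr.2.2.symm
  have hq'b : Commute b' (k * q * k⁻¹) := hkb ▸ (Commute.conj_iff k).2 hqr.symm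
  have hxq' : Commute (k * x * k⁻¹) (k * q * k⁻¹) := (Commute.conj_iff k).2 hq.2.2
  have hne' : k * x * k⁻¹ ≠ k * q * k⁻¹ := fun e => hq.2.1 (mul_left_cancel (mul_right_cancel e)).symm
  set s := k * x * k⁻¹
  set t := k * q * k⁻¹
  have hxs : ¬ Commute s x := fun h => by
    have e := hiso s hx' hx'b h
    have e' : t = x := hiso t hq' hq'b (e ▸ hxq'.symm)
    exact hne' (e.trans e'.symm)
  have hsD := hx'.1
  have hcj : ∀ {d w : G}, d ∈ perp D p → Commute b' d → w ∈ perp D p → Commute b' w →
      cj d w ∈ perp D p ∧ Commute b' (cj d w) := fun {d w} hd hbd hw hbw =>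
    ⟨(cj_mem_perp hD hp.1 (Set.mem_insert_of_mem _ hd) hw).1, (commute_cj_of hD hd.1 hbd.symm).2 hbw⟩
  -- `w = cj x s = cj s x` is alone and is not alone
  obtain ⟨hw1, hw2⟩ := hcj hxp hxb'.symm hq' hq'b
  have hts : Commute (cj x s) (cj x t) := (commute_cj hD hx).2 hxq'
  rw [braid hD hx hsD (fun h => hxs h.symm)] at hts
  have hback : Commute x (cj s (cj x t)) := by
    have := (commute_cj hD hsD).2 hts
    rwa [cj_cj hD hsD] at this
  obtain ⟨hw3, hw4⟩ := hcj hx' hx'b hw1 hw2
  have e := hiso _ hw3 hw4 hback.symm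
  have : cj x t = cj x s := by
    rw [← cj_cj hD hsD (cj x t), e, braid hD hx hsD (fun h => hxs h.symm)]
  exact hne' ((cj_inj hD hx).1 this).symm

/-- The class of the neighbours is of the same kind. -/
theorem isFischer_loc (hc : CentralAt G D x) : IsFischer (locSet G D x) := by
  have hD := hF.toTrans
  haveI : Fact (Nat.Prime 3) := ⟨Nat.prime_three⟩
  have hsep := fun a ha b hb h => eq_of_commute_iff hF (a := a) (b := b) ha hb h
  have hnc : ∀ a ∈ perp D x, ∃ e ∈ perp D x, ¬ Commute a e := fun a ha => exists_perp_noncommute hD hsep hx ha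
  obtain ⟨a, ha, b, hb, hne, hab⟩ := exists_commuting_pair hF hx hc.2
  have hT := trans_image hF hsep hx ⟨a, ha⟩
  have hwE : ∃ p ∈ locSet G D x, ∃ q ∈ locSet G D x, p ≠ q ∧ Commute p q :=
    ⟨_, bar_mem ha, _, bar_mem hb, fun e => hne (bar_inj hD (fun _ h => h.1) hnc ha hb e),
      (bar_commute hD (fun _ h => h.1) ha hb).2 hab⟩
  have hne2 : ∃ p ∈ locSet G D x, ∃ q ∈ locSet G D x, p ≠ q := by
    obtain ⟨p, hp, q, hq, h, -⟩ := hwE; exact ⟨p, hp, q, hq, h⟩
  have h2E : Cfsg.pCore 2 (Loc G D x) ≤ Subgroup.center _ := (pCore_quot_center_eq_bot hc.1).le.trans bot_le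
  have h3E : Cfsg.pCore 3 (Loc G D x) ≤ Subgroup.center _ :=
    (pCore_quot_center_eq_bot_of 3 hc.2).le.trans bot_le
  obtain ⟨L, hLn, hL, -, hgf⟩ := exists_quasisimple hT hne2 h2E h3E
  haveI := hLn
  have hconn : (Cfsg.commutingGraph (locSet G D x)).Connected := by
    haveI : Nonempty ↥(locSet G D x) := ⟨⟨_, bar_mem ha⟩⟩
    refine ⟨fun u v => ?_⟩
    obtain ⟨p, hp, ep⟩ := exists_bar u.2
    obtain ⟨q, hq, eq'⟩ := exists_bar v.2
    have key : ∀ t, Joined D x p t → ∀ w : ↥(locSet G D x), (∀ ht : t ∈ perp D x, bar ht = (w : Loc G D x)) →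
        (Cfsg.commutingGraph (locSet G D x)).Reachable u w := by
      intro t h
      induction h with
      | refl => intro w hw; rw [show w = u from Subtype.ext ((hw hp).symm.trans ep)]
      | @tail s t _ hst ih =>
        intro w hw
        refine (ih ⟨_, bar_mem hst.1⟩ fun _ => rfl).trans ?_
        by_cases he : (⟨_, bar_mem hst.1⟩ : ↥(locSet G D x)) = w
        · rw [he]
        · refine SimpleGraph.Adj.reachable ?_
          rw [Cfsg.commutingGraph, SimpleGraph.fromRel_adj]
          exact ⟨he, Or.inl (hw hst.2.1 ▸ (bar_commute hD (fun _ h => h.1) hst.1 hst.2.1).2 hst.2.2)⟩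
    exact key q (joined hF hx hc hp hq) v fun _ => eq'
  exact isFischer_of_primitive hT (primitive_of_index hT hne2 h2E h3E hL hgf
    (index_le_two_of_connected hT hL hconn)) hwE (center_loc hF hx)

end Cfsg.Lib.Fischer.Thm
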