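import Cfsg.Agent.Lib.Fischer.Thm.Square
import Cfsg.Agent.Lib.Fischer.Thm.LocCounts
import Cfsg.Agent.Lib.Fischer.Thm.M22
import Cfsg.Agent.Lib.Fischer.Thm.Local
import Cfsg.Agent.Lib.Fischer.Thm.Steps
import Cfsg.Agent.Lib.Fischer.Relations.TwentyFour.Global

/-!
# No neighbourhood is of type M(24)

Such a commuting graph would have valency 306936 and 31671 common neighbours at a commuting pair; the eigenvalues
then come from a factorisation of 275264, and none leaves an integral count of the members away from a member.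
-/

set_option autoImplicit false
set_option linter.unusedSectionVars false

namespace Cfsg.Lib.Fischer.Thm

open Cfsg Cfsg.Lib.Fischer Cfsg.Lib.Fischer.Relations

universe u

/-- A divisor of a product of two factors is a product of their divisors. -/
theorem exists_factors {a b d : ℕ} (ha : 0 < a) (hb : 0 < b) (h : d ∣ a * b) :
    ∃ i ∈ Nat.divisors a, ∃ j ∈ Nat.divisors b, d = i * j := by
  obtain ⟨i, j, hi, hj, rfl⟩ := exists_dvd_and_dvd_of_dvd_mul h
  exact ⟨i, Nat.mem_divisors.2 ⟨hi, ha.ne'⟩, j, Nat.mem_divisors.2 ⟨hj, hb.ne'⟩, rfl⟩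

theorem top_check {d q : ℕ} (hdq : d * q = 275264) :
    ¬ (d < 31673 + q ∧ 31673 + q < d + 306936 ∧ (31673 + q - d) ∣ 306936 * 275264) := by
  have key : ∀ i ∈ Nat.divisors 64, ∀ a ∈ [1, 11], ∀ b ∈ [1, 17], ∀ c ∈ [1, 23],
      ¬ (i * (a * (b * c)) < 31673 + 275264 / (i * (a * (b * c))) ∧
        31673 + 275264 / (i * (a * (b * c))) < i * (a * (b * c)) + 306936 ∧
        (31673 + 275264 / (i * (a * (b * c))) - i * (a * (b * c))) ∣ 306936 * 275264) := by decide +kernel
  have hd0 : 0 < d := Nat.pos_of_ne_zero fun e => by simp [e] at hdq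
  obtain ⟨i, hi, j, hj, rfl⟩ := exists_factors (a := 64) (b := 4301) (by norm_num) (by norm_num)
    (show d ∣ 64 * 4301 from ⟨q, by omega⟩)
  obtain ⟨a, c', ha, hc', rfl⟩ := exists_dvd_and_dvd_of_dvd_mul
    (show j ∣ 11 * 391 from (Nat.mem_divisors.1 hj).1)
  obtain ⟨b, c, hb, hc, rfl⟩ := exists_dvd_and_dvd_of_dvd_mul (show c' ∣ 17 * 23 from hc')
  have hq : q = 275264 / (i * (a * (b * c))) :=
    (Nat.div_eq_of_eq_mul_left hd0 (by rw [mul_comm]; exact hdq.symm)).symm
  have ha' := (Nat.dvd_prime (by norm_num)).1 ha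
  have hb' := (Nat.dvd_prime (by norm_num)).1 hb
  have hcc := (Nat.dvd_prime (by norm_num)).1 hc
  rw [hq]
  exact key i hi a (by simpa using ha') b (by simpa using hb') c (by simpa using hcc)

/-- No neighbourhood is of type M(24). -/
theorem topStep : TopStep.{u} := by
  intro G _ _ D hF x hx hc h24
  have hE := isFischer_loc hF hx hc
  obtain ⟨d, K⟩ := m24_data hE.toTrans (primitive_of_isFischer hE) h24
  obtain ⟨y, hy, hyx, hxy⟩ := exists_perp hF hx
  obtain ⟨e, he, hxe⟩ := exists_not_commute hF hx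
  have hy' : y ∈ perp D x := ⟨hy, hyx, hxy⟩
  obtain ⟨hn, hnk, hL, -, hcount, hev⟩ := parameters hF hx hy' he hxe
  have hk : (perp D x).ncard = 306936 := by rw [ncard_locSet hF hx]; exact K.main.1
  have hl : (inner D x y).ncard = 31671 := by
    rw [ncard_inner_loc hF hx hy', ← Nat.card_coe_set_eq]
    exact K.params.val _ (bar_mem hy')
  obtain ⟨n, hn'⟩ : ∃ n, n = (inner D x e).ncard := ⟨_, rfl⟩
  obtain ⟨L, hL'⟩ : ∃ L, L = (far D x).ncard := ⟨_, rfl⟩
  simp only [hk, hl, ← hn', ← hL'] at hn hnk hL hcount hev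
  have hnL : n * L = 306936 * 275264 := by omega
  rcases hev with ⟨p, q, hpq, hp⟩ | hconf
  · refine top_check (d := p) (q := q) (by omega) ⟨by omega, by omega, L, ?_⟩
    rw [show 31673 + q - p = n by omega, hnL]
  · rcases le_or_gt n 31671 with h | h
    · nlinarith
    · rcases eq_or_lt_of_le (show 31672 ≤ n by omega) with e' | e'
      · subst e'; omega
      · nlinarith

end Cfsg.Lib.Fischer.Thm
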