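import Cfsg.Agent.Lib.Fischer.Thm.Cores
import Cfsg.Agent.Lib.Fischer.Thm.Sym.Main
import Cfsg.Agent.Lib.Fischer.Thm.Sp.Main
import Cfsg.Agent.Lib.Fischer.Thm.OrthTwo
import Cfsg.Agent.Lib.Fischer.Thm.Unitary.Main
import Cfsg.Agent.Lib.Fischer.Thm.M22
import Cfsg.Agent.Lib.Fischer.Thm.Refl.Main
import Cfsg.Agent.Lib.Fischer.Thm.M23
import Cfsg.Agent.Lib.Fischer.Thm.M24
import Cfsg.Agent.Lib.Fischer.Thm.Top
import Cfsg.Agent.Lib.Fischer.Thm.SmallIso

/-!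
# All the steps
-/

set_option autoImplicit false

namespace Cfsg.Lib.Fischer.Thm

universe u

theorem steps : Steps.{u} :=
  ⟨twoCoreStep, threeCoreStep, symStep, Sp.spStep, orthTwoStep, unitaryStep, m22Step, reflStep, m23Step, m24Step,
    topStep, smallIsoStep⟩

end Cfsg.Lib.Fischer.Thm
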