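import Cfsg.Agent.Lib.Fischer.Thm.Steps
import Cfsg.Agent.Lib.Fischer.Polar.Main
import Cfsg.Agent.Lib.Fischer.Clone.Main
import Cfsg.Agent.S0440
import Cfsg.Agent.S1631

/-!
# Non-central local cores at two and three
-/

set_option autoImplicit false
set_option linter.style.haveILetI false

namespace Cfsg.Lib.Fischer.Thm

open Cfsg Cfsg.Lib.Fischer Equiv

universe u v

variable {G : Type u} [Group G] {D : Set G}

/-- An isomorphism carrying one member of a generating class into a class carries the one class onto the other. -/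
theorem image_eq_of_mem {H : Type v} [Group H] (hD : Trans D) (e : G ≃* H) {T : Set H}
    (hT : ∃ t ∈ T, T = conjugatesOf t) {d : G} (hd : d ∈ D) (hmem : e d ∈ T) : e '' D = T := by
  obtain ⟨t, -, rfl⟩ := hT
  have hmem' : IsConj t (e d) := hmem
  refine Set.Subset.antisymm ?_ fun s hs => ?_
  · rintro _ ⟨a, ha, rfl⟩
    obtain ⟨g, rfl⟩ := hD.trans d hd a ha
    exact hmem'.trans (isConj_iff.2 ⟨e g, by rw [map_mul, map_mul, map_inv]⟩)
  · obtain ⟨g, hg⟩ := isConj_iff.1 (hmem'.symm.trans hs)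
    refine ⟨e.symm g * d * (e.symm g)⁻¹, hD.conj _ d hd, ?_⟩
    rw [map_mul, map_mul, map_inv, e.apply_symm_apply, hg]

theorem twoCoreStep : TwoCoreStep.{u} := by
  intro G _ _ D hF x hx h
  rcases Polar.classify_image (Polar.isPolar_of_two hF hx h) with ⟨n, hn, e, d, hd, hr⟩ | ⟨n, hn, e, d, hd, A, hA, hr⟩
  · exact Or.inl ⟨n, hn, e, image_eq_of_mem hF.toTrans e (Cfsg.Agent.S0440.result n (by omega)).2.1 hd hr⟩
  · refine Or.inr ⟨n, hn, Polar.F4, inferInstance, inferInstance, Polar.card_F4.trans (by norm_num), e, ?_⟩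
    classical
    obtain ⟨t, ht, hT⟩ := (Cfsg.Agent.S1631.result Polar.F4 (Polar.card_F4.trans (by norm_num)) n hn).2.1
    refine image_eq_of_mem hF.toTrans e ⟨QuotientGroup.mk t, ⟨t, ht, rfl⟩, ?_⟩ hd ⟨A, hr, hA.symm⟩
    ext s
    constructor
    · rintro ⟨a, ha, rfl⟩
      have ha' : IsConj t a := (Set.ext_iff.1 hT a).1 ha
      exact (QuotientGroup.mk' _).map_isConj ha'
    · intro hs
      obtain ⟨g, hg⟩ := isConj_iff.1 (show IsConj (QuotientGroup.mk t : Cfsg.PSU n Polar.F4 2) s from hs)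
      obtain ⟨g, rfl⟩ := QuotientGroup.mk_surjective g
      exact ⟨g * t * g⁻¹, (Set.ext_iff.1 hT _).2 (isConj_iff.2 ⟨g, rfl⟩), by rw [← hg]; rfl⟩

theorem threeCoreStep : ThreeCoreStep.{u} := by
  intro G _ _ D hF x hx h
  refine Clone.sym_five_image hF hx fun hle => h fun k hk => hle ?_
  refine Cfsg.Lib.Core.le_pPrimeCore' (N := Cfsg.pCore 3 ↥(Subgroup.closure (perp D x))) inferInstance ?_ hk
  obtain ⟨j, hj⟩ := (Cfsg.Lib.Core.pCore_isPGroup 3 ↥(Subgroup.closure (perp D x))).exists_card_eq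
  rw [hj]
  exact Nat.Coprime.pow_left j (by norm_num)

end Cfsg.Lib.Fischer.Thm
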