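import Cfsg.Agent.Lib.Fischer.Thm.List
import Cfsg.Agent.Lib.Fischer.FromCent.Main

/-!
# The types M(23) and M(24) along an isomorphism
-/

set_option autoImplicit false
set_option linter.unusedSectionVars false

namespace Cfsg.Lib.Fischer.Thm

open Cfsg Cfsg.Lib.Fischer Cfsg.Lib.Fischer.Relations

universe u v

variable {M : Type u} {N : Type v} [Group M] [Group N]

/-- An isomorphism carries the groups generated by a set modulo their centres to each other, with the images. -/
theorem exists_imageEquiv (e : M ≃* N) {S : Set M} {S' : Set N} (h : e '' S = S') :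
    ∃ q : ↥(Subgroup.closure S) ⧸ Subgroup.center ↥(Subgroup.closure S) ≃*
        ↥(Subgroup.closure S') ⧸ Subgroup.center ↥(Subgroup.closure S'),
      q '' Relations.image S = Relations.image S' := by
  subst h
  have hm : (Subgroup.closure S).map (e : M →* N) = Subgroup.closure (e '' S) := MonoidHom.map_closure _ _
  let f : ↥(Subgroup.closure S) ≃* ↥(Subgroup.closure (e '' S)) :=
    (e.subgroupMap (Subgroup.closure S)).trans (MulEquiv.subgroupCongr hm)
  refine ⟨QuotientGroup.congr _ _ f (Fi22Type.map_center_equiv f), ?_⟩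
  ext z
  constructor
  · rintro ⟨_, ⟨a, ha, rfl⟩, rfl⟩
    exact ⟨f a, ⟨(a : M), ha, rfl⟩, rfl⟩
  · rintro ⟨b, hb, rfl⟩
    obtain ⟨a, rfl⟩ := f.surjective b
    obtain ⟨m, hm', he⟩ := hb
    refine ⟨_, ⟨a, ?_, rfl⟩, rfl⟩
    show (a : M) ∈ S
    rwa [← e.injective (he.trans (rfl : ((f a : ↥(Subgroup.closure (e '' S))) : N) = e (a : M)))]

/-- An isomorphism carries the common neighbours. -/
theorem image_two (e : M ≃* N) (D : Set M) (d c : M) :
    e '' ({y : M | y ∈ D ∧ y ≠ d ∧ Commute d y} ∩ {y : M | y ∈ D ∧ y ≠ c ∧ Commute c y}) =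
      {y : N | y ∈ e '' D ∧ y ≠ e d ∧ Commute (e d) y} ∩ {y : N | y ∈ e '' D ∧ y ≠ e c ∧ Commute (e c) y} := by
  rw [Set.image_inter e.injective, FromCent.image_perp, FromCent.image_perp]

/-- The type M(23) carries over along an isomorphism. -/
theorem isOfTypeM23_map (e : M ≃* N) {D : Set M} (h : Cfsg.IsOfTypeM23 M D) : Cfsg.IsOfTypeM23 N (e '' D) := by
  obtain ⟨hZ, d, hd, c, hc, hdc, h22, c₃, hc₃, Q, hnd, hdet, ⟨g⟩⟩ := h
  refine ⟨by rw [← Fi22Type.map_center_equiv e, hZ, Subgroup.map_bot], e d, ⟨d, hd, rfl⟩, e c, ⟨c, hc, rfl⟩,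
    fun h => hdc (by simpa using h.map e.symm), ?_, c₃, hc₃, Q, hnd, hdet, ?_⟩
  · obtain ⟨q, hq⟩ := exists_imageEquiv e (FromCent.image_perp e D d)
    have := FromCent.isOfTypeM22_map q (D := Relations.image _) h22
    rw [hq] at this
    exact this
  · obtain ⟨q⟩ := FromCent.closure_quot_congr e (image_two e D d c)
    exact ⟨q.trans g⟩

/-- The type M(24) carries over along an isomorphism. -/
theorem isOfTypeM24_map (e : M ≃* N) {D : Set M} (h : Cfsg.IsOfTypeM24 M D) : Cfsg.IsOfTypeM24 N (e '' D) := by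
  obtain ⟨hZ, d, hd, c, hc, hdc, h23, K, hK, ⟨eK⟩, ⟨eQ⟩⟩ := h
  haveI := hK
  refine ⟨by rw [← Fi22Type.map_center_equiv e, hZ, Subgroup.map_bot], e d, ⟨d, hd, rfl⟩, e c, ⟨c, hc, rfl⟩,
    fun h => hdc (by simpa using h.map e.symm), ?_, ?_⟩
  · obtain ⟨q, hq⟩ := exists_imageEquiv e (FromCent.image_perp e D d)
    have := isOfTypeM23_map q (D := Relations.image _) h23
    rw [hq] at this
    exact this
  · obtain ⟨q, -⟩ := exists_imageEquiv e (image_two e D d c)
    have hn : (K.map q.toMonoidHom).Normal := hK.map _ q.surjective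
    refine ⟨K.map q.toMonoidHom, hn, ⟨(K.equivMapOfInjective q.toMonoidHom q.injective).symm.trans eK⟩, ⟨?_⟩⟩
    exact (QuotientGroup.congr K (K.map q.toMonoidHom) q rfl).symm.trans eQ

end Cfsg.Lib.Fischer.Thm
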