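import Cfsg.Agent.Lib.Fischer.Thm.Main
import Cfsg.Agent.Lib.Fischer.Thm.M22
import Cfsg.Agent.Lib.Fischer.Thm.LocCounts
import Cfsg.Agent.Lib.Fischer.Thm.Transport
import Cfsg.Agent.Lib.Fischer.Relations.Twenty.Order

/-!
# The neighbourhoods in a class all of whose neighbourhoods are of type M(23)
-/

set_option autoImplicit false
set_option linter.unusedSectionVars false

namespace Cfsg.Lib.Fischer.Thm

open Cfsg Cfsg.Lib.Fischer Cfsg.Lib.Fischer.Relations

universe u

/-- What is used about a neighbourhood of type M(23). -/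
structure Loc23 {E : Type u} [Group E] (T : Set E) : Prop where
  fis : IsFischer T
  card : T.ncard = 31671
  perp_card : ∀ p ∈ T, (perp T p).ncard = 3510
  near : ∀ p ∈ T, ∀ q ∈ perp T p, (inner T p q).ncard = 693
  far : ∀ p ∈ T, ∀ q ∈ T, ¬ Commute p q → (inner T p q).ncard = 351
  order : ∀ p ∈ T, ∀ q ∈ T, ¬ Commute p q → 2 ^ 9 * 3 ^ 9 * 5 * 7 * 13 ∣ Nat.card ↥(Subgroup.closure (common T p q))

theorem loc23_of_type {E : Type u} [Group E] [Finite E] {T : Set E} (hF : IsFischer T) (h : Cfsg.IsOfTypeM23 E T) :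
    Loc23 T := by
  obtain ⟨d, K⟩ := m23_data hF.toTrans (primitive_of_isFischer hF) h fun c hc Q hQ =>
    Dvd.dvd.trans (by norm_num) (ReflSeven.quot_dvd Q hQ hc)
  obtain ⟨F, _, _, hF', b, ⟨C⟩⟩ := exists_coord23 K
  have hP := C.params
  have hcard := C.main.1
  obtain ⟨c, hc, hdc, c₃, hc₃, hL⟩ := K.refl
  refine ⟨hF, hcard, fun p hp => by rw [← Nat.card_coe_set_eq]; exact hP.val p hp, fun p hp q hq => ?_,
    fun p hp q hq hpq => ?_, fun p hp q hq hpq => ?_⟩
  · have hset : {u | u ∈ perp T p ∧ Commute q u} = insert q (inner T p q) := by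
      ext u
      constructor
      · intro hu
        rcases eq_or_ne u q with e | e
        · exact Or.inl e
        · exact Or.inr ⟨hu.1, hu.1.1, e, hu.2⟩
      · rintro (rfl | hu)
        · exact ⟨hq, Commute.refl _⟩
        · exact ⟨hu.1, hu.2.2.2⟩
    have h2 := hP.adj p hp q hq
    rw [hset, Nat.card_coe_set_eq, Set.ncard_insert_of_notMem fun h => h.2.2.1 rfl] at h2
    omega
  · have h1 := far_mul_common hF hP hp hq hpq
    have h2 := card_class hp hP
    rw [hcard] at h2
    rw [show Nat.card (Relations.far T p) = 28160 by omega, Nat.card_coe_set_eq] at h1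
    rw [inner_eq_common hpq]
    omega
  · obtain ⟨g, rfl, rfl⟩ := exists_move_far hF K.mem hc hdc hp hq hpq
    have himg : (MulAut.conj g).toMonoidHom '' common T d c = common T (g * d * g⁻¹) (g * c * g⁻¹) := by
      rw [← inner_eq_common hdc, ← inner_eq_common hpq, inner, inner, perp_image hF g d, perp_image hF g c,
        ← Set.image_inter (conj_fun_inj hF g)]
      rfl
    rw [← himg, ← MonoidHom.map_closure, Subgroup.card_map_of_injective (MulAut.conj g).injective]
    exact (ReflSeven.order_dvd hc₃ hL).trans (Subgroup.card_quotient_dvd_card _)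

variable {G : Type u} [Group G] [Finite G] {D : Set G} (hF : IsFischer D)
include hF

/-- The neighbourhoods are all alike. -/
theorem loc23 {x : G} (hx : x ∈ D) (hc : CentralAt G D x)
    (h : Cfsg.IsOfTypeM23 (Loc G D x) (locSet G D x)) {a : G} (ha : a ∈ D) : Loc23 (locSet G D a) := by
  refine loc23_of_type (isFischer_loc hF ha (centralAt_conj hF hx ha hc)) ?_
  obtain ⟨g, rfl⟩ := hF.trans x hx a ha
  obtain ⟨q, hq⟩ := exists_imageEquiv (MulAut.conj g)
    (show (MulAut.conj g) '' perp D x = perp D (g * x * g⁻¹) from (perp_image hF g x).symm)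
  have := isOfTypeM23_map q h
  rwa [hq] at this

/-- Common neighbours of `a` and two of its neighbours, in the class at `a`. -/
theorem ncard_triple {a p q : G} (ha : a ∈ D) (hp : p ∈ perp D a) (hq : q ∈ perp D a) :
    (inner D a p ∩ perp D q).ncard = (inner (locSet G D a) (bar hp) (bar hq)).ncard := by
  have hD := hF.toTrans
  have hnc : ∀ u ∈ perp D a, ∃ e ∈ perp D a, ¬ Commute u e := fun u hu =>
    exists_perp_noncommute hD (fun a ha b hb h => eq_of_commute_iff hF ha hb h) ha hu
  refine Set.ncard_congr (fun u hu => bar hu.1.1)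
    (fun u hu => ⟨⟨bar_mem hu.1.1, fun e => hu.1.2.2.1 (bar_inj hD (fun _ h => h.1) hnc hu.1.1 hp e),
      (bar_commute hD (fun _ h => h.1) hp hu.1.1).2 hu.1.2.2.2⟩, bar_mem hu.1.1,
      fun e => hu.2.2.1 (bar_inj hD (fun _ h => h.1) hnc hu.1.1 hq e),
      (bar_commute hD (fun _ h => h.1) hq hu.1.1).2 hu.2.2.2⟩)
    (fun u v hu hv e => bar_inj hD (fun _ h => h.1) hnc hu.1.1 hv.1.1 e) (fun w hw => ?_)
  obtain ⟨u, hu, rfl⟩ := exists_bar hw.1.1
  exact ⟨u, ⟨⟨hu, hu.1, fun e => hw.1.2.1 (by subst e; rfl), (bar_commute hD (fun _ h => h.1) hp hu).1 hw.1.2.2⟩,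
    hu.1, fun e => hw.2.2.1 (by subst e; rfl), (bar_commute hD (fun _ h => h.1) hq hu).1 hw.2.2.2⟩, rfl⟩

end Cfsg.Lib.Fischer.Thm
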